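import Groth.Agent.H82.Bruhat.Decomp

/-!
# The cells cover the geometric points, and are disjoint
-/

set_option autoImplicit false
set_option linter.style.haveILetI false
set_option linter.unusedSectionVars false
universe u

open CategoryTheory MonoidalCategory CartesianMonoidalCategory MonObj GrpObj AlgebraicGeometry
open Groth.Agent.Lib.RedPts Groth.Agent.H82.BigCell Groth.Agent.H82.Contract Groth.Agent.H82.Weyl
open Groth.Agent.H82.RankOne (P P_eq P_zero P_comp P_add P_neg)
open Groth.Agent.H82.Borel (IsACPt root_neg_idx)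

namespace Groth.Agent.H82.Bruhat

variable {S : Scheme.{u}} {G : Over S} [GrpObj G] {D : Red.SplitRed G}
variable {b : D.P.Base} {l : D.M →+ ℤ} (hA : Adapted b l)
variable {nr : D.idx → (𝟙_ (Over S) ⟶ G)} (hnr : RedSub.RealisesReflections D nr)

theorem wmap_pair (a : D.idx) : wmap D [a, a].reverse = AddMonoidHom.id D.M := by
  rw [show [a, a].reverse = [a, a] from rfl, wmap_cons, wmap_cons, wmap_nil, AddMonoidHom.comp_id]
  refine AddMonoidHom.ext fun m => ?_
  exact D.P.reflection_same a m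

include hnr in
theorem exists_torus_square (a : D.idx) (Y : Over S) :
    ∃ t : Y ⟶ D.T, t ≫ D.i = rp nr [a] Y * rp nr [a] Y := by
  have h2 : Rep ([a] ++ [a]) (rp nr [a] Y * rp nr [a] Y) :=
    Rep.mul (L := [a]) (M := [a]) (rep_rp hnr [a] Y) (rep_rp hnr [a] Y)
  unfold Rep at h2
  rw [List.singleton_append, wmap_pair] at h2
  refine exists_torus_of_commute_torus fun Z f s => ?_
  have := h2 Z f s
  rw [act_id, mul_inv_eq_iff_eq_mul] at this
  exact this.symm

include hA hnr in
theorem simple_inv_stab [D.P.IsCrystallographic] [D.P.IsReduced] {Y : Over S} (hY : IsACPt Y) {a : D.idx}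
    (ha : a ∈ b.support) : (rp nr [a] Y)⁻¹ ∈ stab nr l Y := by
  obtain ⟨t, ht⟩ := exists_torus_square hnr a Y
  have e : (rp nr [a] Y)⁻¹ = (t⁻¹ ≫ D.i) * rp nr [a] Y := by
    rw [GrpObj.inv_comp t D.i, ht]; group
  rw [e]
  exact mul_mem (torus_stab hnr _) (simple_stab hA hnr ha hY)

include hA hnr in
theorem word_stab [D.P.IsCrystallographic] [D.P.IsReduced] {Y : Over S} (hY : IsACPt Y) :
    ∀ L : List D.idx, (∀ a ∈ L, a ∈ b.support) → rp nr L Y ∈ stab nr l Y ∧ (rp nr L Y)⁻¹ ∈ stab nr l Y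
  | [], _ => by
    have : rp nr ([] : List D.idx) Y = (1 : Y ⟶ G) := by simp [rp, MonObj.comp_one]
    rw [this, inv_one]
    exact ⟨one_mem _, one_mem _⟩
  | a :: L, hL => by
    obtain ⟨h1, h2⟩ := word_stab hY L fun c hc => hL c (List.mem_cons_of_mem _ hc)
    rw [rp_cons a L Y, _root_.mul_inv_rev]
    exact ⟨mul_mem (simple_stab hA hnr (hL a List.mem_cons_self) hY) h1,
      mul_mem h2 (simple_inv_stab hA hnr hY (hL a List.mem_cons_self))⟩

include hA hnr in
/-- All the root elements preserve the union of the cells. -/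
theorem gens_stab [D.P.IsCrystallographic] [D.P.IsReduced] {Y : Over S} (hY : IsACPt Y) (c : D.idx)
    (x : Γ(Y.left, ⊤)) : P (D.u c) x ∈ stab nr l Y := by
  have hneg : ∀ c, l (D.P.root c) < 0 → ∀ x : Γ(Y.left, ⊤), P (D.u c) x ∈ stab nr l Y := fun c hc x =>
    unip_stab (root_mem_unip (by rw [AddMonoidHom.neg_apply]; omega) x)
  rcases lt_or_gt_of_ne (hA.ne c) with h | h
  · exact hneg c h x
  · haveI : IsAddTorsionFree D.M := .of_isTorsionFree ℤ D.M
    haveI : IsAddTorsionFree (Module.Dual ℤ D.M) := .of_isTorsionFree ℤ _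
    obtain ⟨L, hL, j, hj, hLj⟩ := exists_word_simple_pos b ((isPos_iff hA c).2 h)
    have hc : RedSub.wordPerm D.P L c = j := D.P.root.injective (by rw [← wmap_root]; exact hLj)
    obtain ⟨y, hy⟩ := exists_conj_root L _ (fun X => rep_rp hnr L X) c x
    rw [hc] at hy
    obtain ⟨w, hw⟩ := exists_conj_root [j] _ (fun X => rep_rp hnr [j] X) j y
    rw [wordPerm_singleton] at hw
    change rp nr L Y * P (D.u c) x * (rp nr L Y)⁻¹ = P (D.u j) y at hy
    change rp nr [j] Y * P (D.u j) y * (rp nr [j] Y)⁻¹ = P (D.u (D.P.reflectionPerm j j)) w at hw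
    have e : P (D.u c) x = (rp nr L Y)⁻¹ * ((rp nr [j] Y)⁻¹ * P (D.u (D.P.reflectionPerm j j)) w * rp nr [j] Y) *
        rp nr L Y := by rw [← hw, ← hy]; group
    have hwneg : l (D.P.root (D.P.reflectionPerm j j)) < 0 := by
      rw [root_neg_idx, map_neg]
      have := simple_pos hA hj
      omega
    rw [e]
    exact mul_mem (mul_mem (word_stab hA hnr hY L hL).2 (mul_mem (mul_mem (simple_inv_stab hA hnr hY hj)
      (hneg _ hwneg w)) (simple_stab hA hnr hj hY))) (word_stab hA hnr hY L hL).1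

include hA hnr in
theorem prod_stab [D.P.IsCrystallographic] [D.P.IsReduced] {Y : Over S} (hY : IsACPt Y) {k : ℕ}
    (d : Fin k → D.idx) (w : Y ⟶ RedSub.pow (Red.Ga S) k) :
    (w ≫ RedSub.prodMap (Red.Ga S) k fun i => D.u (d i)) ∈ stab nr l Y := by
  rw [comp_prodMap]
  induction k with
  | zero => exact one_mem _
  | succ k ih =>
    rw [prodPts_succ]
    refine mul_mem ?_ ?_
    · rw [← Category.assoc, P_eq]
      exact gens_stab hA hnr hY _ _
    · have := ih (fun i => d i.succ) (tuple k fun i => w ≫ proj (k + 1) i.succ)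
      simp only [← Category.assoc, tuple_proj] at this
      simpa only [← Category.assoc] using this

include hA hnr in
/-- Points of the cell preserve the union of the cells. -/
theorem cellPt_stab [D.P.IsCrystallographic] [D.P.IsReduced] {Y : Over S} (hY : IsACPt Y) {n m : ℕ}
    (e : Fin n → D.idx) (e' : Fin m → D.idx) (z : Y ⟶ RedSub.pow (Red.Ga S) n ⊗ (D.T ⊗ RedSub.pow (Red.Ga S) m)) :
    z ≫ RedSub.cellMap D e e' ∈ stab nr l Y :=
  (comp_cellMap (e := e) e' z).symm ▸
    mul_mem (prod_stab hA hnr hY e _) (mul_mem (torus_stab hnr _) (prod_stab hA hnr hY e' _))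

theorem inCell_one (Y : Over S) : InCell (D := D) nr l [] (1 : Y ⟶ G) :=
  ⟨1, 1, one_mem _, one_mem _, by simp [rp, MonObj.comp_one]⟩

include hA hnr in
/-- Every point of the group has, at some geometric point over it, a cell. -/
theorem exists_inCell [D.P.IsCrystallographic] [D.P.IsReduced] (p : G.left) :
    ∃ (Y : Over S) (g : Y ⟶ G) (L : List D.idx), IsACPt Y ∧ (∀ o, g.left o = p) ∧ InCell nr l L g := by
  obtain ⟨n, m, e, e', -, -, -, -, ho⟩ := exists_cell hA.ne
  haveI := ho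
  obtain ⟨Y₀, g₀, hY₀, hg₀⟩ := exists_acPt G p
  obtain ⟨X', c, z, z', -, hs, hz⟩ := exists_two_cells (e := e) (e' := e') g₀
  haveI := hs
  haveI : Nonempty Y₀.left := by
    haveI := hY₀.isField.nontrivial
    by_contra h
    rw [not_nonempty_iff] at h
    haveI := h
    exact not_subsingleton Γ(Y₀.left, ⊤) inferInstance
  obtain ⟨q⟩ : Nonempty X'.left := ⟨(c.left.surjective (Classical.arbitrary Y₀.left)).choose⟩
  obtain ⟨Y, r, hY, -⟩ := exists_acPt X' q
  have hst : r ≫ c ≫ g₀ ∈ stab nr l Y := by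
    rw [hz, MonObj.comp_mul, ← Category.assoc r z, ← Category.assoc r z']
    exact mul_mem (cellPt_stab hA hnr hY e e' _) (cellPt_stab hA hnr hY e e' _)
  obtain ⟨L, hL⟩ := hst 1 ⟨[], inCell_one Y⟩
  rw [_root_.mul_one] at hL
  refine ⟨Y, r ≫ c ≫ g₀, L, hY, fun o => ?_, hL⟩
  rw [Over.comp_left, Over.comp_left, Scheme.Hom.comp_apply, Scheme.Hom.comp_apply]
  exact hg₀ _

include hA hnr in
/-- Uniqueness: two cells meeting in a point have the same Weyl element. -/
theorem wordPerm_eq [D.P.IsReduced] {L L' : List D.idx} {Y : Over S} [IsAffine Y.left]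
    [Nontrivial Γ(Y.left, ⊤)] {g : Y ⟶ G} (h : InCell nr l L g) (h' : InCell nr l L' g) :
    RedSub.wordPerm D.P L = RedSub.wordPerm D.P L' := by
  classical
  haveI := isAffineHom D
  obtain ⟨u, v, hu, hv, rfl⟩ := h
  obtain ⟨u', v', hu', hv', e⟩ := h'
  obtain ⟨w₁, w₂, hw, hw₁, hw₂⟩ := exists_split (l := -l) (fun c => by simpa using hA.ne c)
    (fun c => l (D.P.root ((RedSub.wordPerm D.P L).symm c)) < 0) (mul_mem (inv_mem hu') hu)
  set n := rp nr L Y with hn
  set n' := rp nr L' Y with hn'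
  have ha : n⁻¹ * w₁ * n ∈ unip (D := D) (-l) Y :=
    inv_conj_mem_of_roots hnr L _
      (fun c => 0 < (-l) (D.P.root c) ∧ l (D.P.root ((RedSub.wordPerm D.P L).symm c)) < 0)
      (fun c hc y => root_mem_unip (by rw [AddMonoidHom.neg_apply]; have := hc.2; omega) y)
      (by simpa only [and_assoc] using hw₁)
  have hb : n⁻¹ * w₂ * n ∈ bor (D := D) l Y :=
    inv_conj_mem_of_roots hnr L _
      (fun c => 0 < (-l) (D.P.root c) ∧ ¬ l (D.P.root ((RedSub.wordPerm D.P L).symm c)) < 0)
      (fun c hc y => unip_le_bor l Y (root_mem_unip (by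
        have := hA.ne ((RedSub.wordPerm D.P L).symm c); have := hc.2; omega) y))
      (by simpa only [and_assoc] using hw₂)
  have hmem : (n⁻¹ * w₂ * n) * (v * v'⁻¹) ∈ bor (D := D) l Y := mul_mem hb (mul_mem hv (inv_mem hv'))
  have key : n⁻¹ * n' = (n⁻¹ * w₁ * n) * ((n⁻¹ * w₂ * n) * (v * v'⁻¹)) := by
    have h1 : n' = u'⁻¹ * (u * n * v) * v'⁻¹ := by rw [e]; group
    calc n⁻¹ * n' = n⁻¹ * (u'⁻¹ * u) * n * (v * v'⁻¹) := by rw [h1]; group
      _ = _ := by rw [hw]; group
  obtain ⟨L₁, hL₁⟩ := hmem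
  obtain ⟨t, ht⟩ := exists_torus_of_regular hA.ne (Borel.commutes_of_isLimPt hL₁)
  have hb' : (t ≫ D.i)⁻¹ * ((n⁻¹ * w₂ * n) * (v * v'⁻¹)) ∈ unip (D := D) l Y := by
    have := (isLimPt_torus_pt (l := l) t).inv.mul hL₁
    rwa [← ht, inv_mul_cancel] at this
  have hrep : Rep (L.reverse ++ L') (n⁻¹ * n') := Rep.mul (rep_rp hnr L Y).inv (rep_rp hnr L' Y)
  refine Equiv.ext fun c => ?_
  have hid := wordPerm_eq_of_cell hA.ne hrep t ha hb' (by rw [key]; group) c
  have h2 : RedSub.wordPerm D.P L (RedSub.wordPerm D.P (L.reverse ++ L') c) = RedSub.wordPerm D.P L' c := by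
    refine D.P.root.injective ?_
    rw [← wmap_root, ← wmap_root, ← wmap_root, wmap_append, AddMonoidHom.comp_apply]
    exact DFunLike.congr_fun (wmap_reverse_comp L) _
  rwa [hid] at h2

end Groth.Agent.H82.Bruhat
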