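import Groth.Agent.H82.Bruhat.SmallCell
import Groth.Agent.H82.Order.CommMem
import Groth.Agent.H84.BaseBridge

/-!
# The Bruhat decomposition on geometric points
-/

set_option autoImplicit false
set_option linter.style.haveILetI false
set_option linter.unusedSectionVars false
universe u

open CategoryTheory MonoidalCategory CartesianMonoidalCategory MonObj GrpObj AlgebraicGeometry
open Groth.Agent.Lib.RedPts Groth.Agent.H82.BigCell Groth.Agent.H82.Contract Groth.Agent.H82.Weyl
open Groth.Agent.H82.RankOne (P P_eq P_zero P_comp P_add P_neg)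
open Groth.Agent.H82.Borel (IsACPt root_neg_idx)
open scoped commutatorElement

namespace Groth.Agent.H82.Bruhat

variable {S : Scheme.{u}} {G : Over S} [GrpObj G] {D : Red.SplitRed G}

/-- A functional adapted to a base. -/
structure Adapted (b : D.P.Base) (l : D.M →+ ℤ) : Prop where
  pos : ∀ a, a ∈ RedSub.posRoots D.P b ↔ 0 < l (D.P.root a)
  neg : ∀ a, a ∈ RedSub.negRoots D.P b ↔ l (D.P.root a) < 0
  ne : ∀ a, l (D.P.root a) ≠ 0

theorem exists_adapted (b : D.P.Base) : ∃ l : D.M →+ ℤ, Adapted b l := by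
  obtain ⟨l, hp, hn⟩ := exists_regular (D := D) b
  refine ⟨l, fun a => ⟨hp a, fun h => ?_⟩, fun a => ⟨hn a, fun h => ?_⟩, fun a => ?_⟩
  · exact (b.root_mem_or_neg_mem a).resolve_right fun h' => by have := hn a h'; omega
  · exact (b.root_mem_or_neg_mem a).resolve_left fun h' => by have := hp a h'; omega
  · rcases b.root_mem_or_neg_mem a with h | h
    · exact (hp a h).ne'
    · exact (hn a h).ne

variable {b : D.P.Base} {l : D.M →+ ℤ} (hA : Adapted b l)

include hA in
theorem isPos_iff [D.P.IsCrystallographic] (a : D.idx) : b.IsPos a ↔ 0 < l (D.P.root a) :=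
  (H84.BaseBridge.isPos_iff_mem b a).trans (hA.pos a)

include hA in
theorem simple_pos {a : D.idx} (ha : a ∈ b.support) : 0 < l (D.P.root a) :=
  (hA.pos a).1 (AddSubmonoid.subset_closure ⟨a, ha, rfl⟩)

include hA in
/-- A simple reflection permutes the positive roots other than the simple root. -/
theorem refl_pos [D.P.IsCrystallographic] [D.P.IsReduced] {a c : D.idx} (ha : a ∈ b.support)
    (hc : 0 < l (D.P.root c)) (hne : c ≠ a) : 0 < l (D.P.root (D.P.reflectionPerm a c)) :=
  (isPos_iff hA _).1 (((isPos_iff hA c).2 hc).reflectionPerm ha hne)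

include hA in
/-- A simple reflection permutes the negative roots other than the opposite of the simple root. -/
theorem refl_neg [D.P.IsCrystallographic] [D.P.IsReduced] {a c : D.idx} (ha : a ∈ b.support)
    (hc : l (D.P.root c) < 0) (hne : c ≠ D.P.reflectionPerm a a) :
    l (D.P.root (D.P.reflectionPerm a c)) < 0 ∧ D.P.reflectionPerm a c ≠ D.P.reflectionPerm a a := by
  let c' := D.P.reflectionPerm c c
  have h1 := refl_pos hA ha (c := c') (by rw [root_neg_idx, map_neg]; omega) fun h => hne (D.P.root.injective (by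
    have := congrArg D.P.root h
    rw [root_neg_idx] at this
    rw [root_neg_idx, ← this, neg_neg]))
  rw [D.P.root_reflectionPerm, root_neg_idx, map_neg, ← D.P.root_reflectionPerm, map_neg] at h1
  refine ⟨by omega, fun h => ?_⟩
  have h2 := (D.P.reflectionPerm a).injective h
  have := simple_pos hA ha
  rw [h2] at hc
  omega

/-- A word's permutation commutes with passing to opposite roots. -/
theorem wordPerm_neg (L : List D.idx) (c : D.idx) :
    D.P.root (RedSub.wordPerm D.P L (D.P.reflectionPerm c c)) = -D.P.root (RedSub.wordPerm D.P L c) := by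
  rw [← wmap_root, ← wmap_root, root_neg_idx, map_neg]

theorem wordPerm_symm_neg (L : List D.idx) (c : D.idx) :
    D.P.root ((RedSub.wordPerm D.P L).symm (D.P.reflectionPerm c c)) = -D.P.root ((RedSub.wordPerm D.P L).symm c) := by
  rw [← root_neg_idx ((RedSub.wordPerm D.P L).symm c)]
  refine congrArg D.P.root ((Equiv.symm_apply_eq _).2 (D.P.root.injective ?_))
  rw [wordPerm_neg, Equiv.apply_symm_apply, root_neg_idx]

/-- The cell of a word on points. -/
def InCell (nr : D.idx → (𝟙_ (Over S) ⟶ G)) (l : D.M →+ ℤ) (L : List D.idx) {Y : Over S} (g : Y ⟶ G) : Prop :=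
  ∃ (u v : Y ⟶ G), u ∈ unip (D := D) (-l) Y ∧ v ∈ bor (D := D) l Y ∧ g = u * rp nr L Y * v

variable {nr : D.idx → (𝟙_ (Over S) ⟶ G)} (hnr : RedSub.RealisesReflections D nr)

/-- The left translations preserving the union of the cells. -/
def stab (nr : D.idx → (𝟙_ (Over S) ⟶ G)) (l : D.M →+ ℤ) (Y : Over S) : Submonoid (Y ⟶ G) where
  carrier := {h | ∀ g, (∃ L, InCell nr l L g) → ∃ L, InCell nr l L (h * g)}
  one_mem' g hg := by rwa [_root_.one_mul]
  mul_mem' {a c} ha hc g hg := by rw [_root_.mul_assoc]; exact ha _ (hc g hg)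

include hnr in
theorem torus_rp (L : List D.idx) {Y : Over S} (t : Y ⟶ D.T) :
    (t ≫ D.i) * rp nr L Y = rp nr L Y * (act D (wmap D L) t ≫ D.i) := by
  have h := (rep_rp hnr L Y).inv Y (𝟙 Y) t
  rw [Category.id_comp, List.reverse_reverse, _root_.inv_inv] at h
  rw [← h]; group

theorem unip_stab {Y : Over S} {h : Y ⟶ G} (hh : h ∈ unip (D := D) (-l) Y) : h ∈ stab nr l Y := by
  rintro g ⟨L, u, v, hu, hv, rfl⟩
  exact ⟨L, h * u, v, mul_mem hh hu, hv, by group⟩

include hnr in
theorem torus_stab {Y : Over S} (t : Y ⟶ D.T) : t ≫ D.i ∈ stab nr l Y := by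
  rintro g ⟨L, u, v, hu, hv, rfl⟩
  refine ⟨L, _, _, torus_conj_unip (-l) t hu, mul_mem (torus_mem_bor l (act D (wmap D L) t)) hv, ?_⟩
  calc (t ≫ D.i) * (u * rp nr L Y * v)
      = ((t ≫ D.i) * u * (t ≫ D.i)⁻¹) * ((t ≫ D.i) * rp nr L Y) * v := by group
    _ = _ := by rw [torus_rp hnr]; group

theorem exists_single {c₀ : D.idx} {Y : Over S} {p : D.idx → Prop} (hp : ∀ c, p c → c = c₀) {g : Y ⟶ G}
    (hg : g ∈ Subgroup.closure {h | ∃ (c : D.idx) (x : Γ(Y.left, ⊤)), p c ∧ h = P (D.u c) x}) :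
    ∃ x, g = P (D.u c₀) x := by
  induction hg using Subgroup.closure_induction with
  | mem g hg => obtain ⟨c, x, hc, rfl⟩ := hg; exact ⟨x, by rw [hp c hc]⟩
  | one => exact ⟨0, (P_zero _).symm⟩
  | mul a c _ _ iha ihc =>
    obtain ⟨x, rfl⟩ := iha; obtain ⟨y, rfl⟩ := ihc; exact ⟨x + y, (P_add _ _ _).symm⟩
  | inv a _ iha => obtain ⟨x, rfl⟩ := iha; exact ⟨-x, (P_neg _ _).symm⟩

include hA in
/-- The simple root group normalizes the other negative root groups, into the negative unipotent part. -/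
theorem conj_others [D.P.IsCrystallographic] [D.P.IsReduced] {a : D.idx} (ha : a ∈ b.support) {Y : Over S}
    (r : Γ(Y.left, ⊤)) {g : Y ⟶ G}
    (hg : g ∈ Subgroup.closure {h | ∃ (c : D.idx) (x : Γ(Y.left, ⊤)),
      (l (D.P.root c) < 0 ∧ c ≠ D.P.reflectionPerm a a) ∧ h = P (D.u c) x}) :
    P (D.u a) r * g * (P (D.u a) r)⁻¹ ∈ unip (D := D) (-l) Y := by
  induction hg using Subgroup.closure_induction with
  | mem g hg =>
    obtain ⟨c, x, ⟨hc, hca⟩, rfl⟩ := hg
    have hneg : ∀ d, l (D.P.root d) < 0 → ∀ y : Γ(Y.left, ⊤), P (D.u d) y ∈ unip (D := D) (-l) Y :=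
      fun d hd y => root_mem_unip (by rw [AddMonoidHom.neg_apply]; omega) y
    let l' : D.M →+ ℤ := -(l.comp (D.P.reflection a).toLinearMap.toAddMonoidHom)
    have hl' : ∀ d, l' (D.P.root d) = -l (D.P.root (D.P.reflectionPerm a d)) := fun d => by
      simp [l', D.P.root_reflectionPerm]
    have hla : 0 < l' (D.P.root a) := by
      rw [hl', root_neg_idx, map_neg, neg_neg]; exact simple_pos hA ha
    have hlc : 0 < l' (D.P.root c) := by
      rw [hl']; have := (refl_neg hA ha hc hca).1; omega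
    have hcomm := Order.commutator_mem (l := l') (fun d => by rw [hl']; have := hA.ne (D.P.reflectionPerm a d); omega)
      hlc hla (unip (D := D) (-l) Y) (fun d p q hp hq hd y => hneg d ?_ y) x r
    · rw [show P (D.u a) r * P (D.u c) x * (P (D.u a) r)⁻¹ =
        ⁅P (D.u a) r, P (D.u c) x⁆ * P (D.u c) x by rw [commutatorElement_def]; group]
      exact mul_mem hcomm (hneg c hc x)
    · by_contra hnd
      have hd0 : 0 < l (D.P.root d) := by have := hA.ne d; omega
      have hdl : 0 < l' (D.P.root d) := by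
        rw [hd, map_add, map_nsmul, map_nsmul]
        exact add_pos (nsmul_pos hlc (by omega)) (nsmul_pos hla (by omega))
      rw [hl'] at hdl
      have hda : d = a := by
        by_contra hne
        have := refl_pos hA ha hd0 hne
        omega
      rw [hda] at hd
      have hdep : ¬LinearIndependent ℤ ![D.P.root c, D.P.root a] := fun h => by
        have := (LinearIndependent.pair_iff.1 h (p : ℤ) ((q : ℤ) - 1) (by
          rw [sub_smul, one_smul, natCast_zsmul, natCast_zsmul, ← add_sub_assoc, ← hd, sub_self])).1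
        omega
      rcases RootPairing.IsReduced.eq_or_eq_neg (P := D.P) c a hdep with h | h
      · rw [D.P.root.injective h] at hc
        exact absurd (simple_pos hA ha) (not_lt.2 hc.le)
      · exact hca (D.P.root.injective (by rw [h, root_neg_idx]))
  | one => simp
  | mul x y _ _ ihx ihy =>
    rw [show P (D.u a) r * (x * y) * (P (D.u a) r)⁻¹ =
      (P (D.u a) r * x * (P (D.u a) r)⁻¹) * (P (D.u a) r * y * (P (D.u a) r)⁻¹) by group]
    exact mul_mem ihx ihy
  | inv x _ ihx =>
    rw [show P (D.u a) r * x⁻¹ * (P (D.u a) r)⁻¹ = (P (D.u a) r * x * (P (D.u a) r)⁻¹)⁻¹ by group]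
    exact inv_mem ihx

include hA hnr in
/-- The simple representatives preserve the union of the cells. -/
theorem simple_stab [D.P.IsCrystallographic] [D.P.IsReduced] {a : D.idx} (ha : a ∈ b.support) {Y : Over S}
    (hY : IsACPt Y) : rp nr [a] Y ∈ stab nr l Y := by
  classical
  rintro g ⟨L, u, v, hu, hv, rfl⟩
  set a' := D.P.reflectionPerm a a with ha'
  have hla := simple_pos hA ha
  set n := rp nr [a] Y
  obtain ⟨g₁, g₂, rfl, hg₁, hg₂⟩ := exists_split (l := -l) (fun c => by simpa using hA.ne c) (· = a') hu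
  obtain ⟨x, rfl⟩ := exists_single (c₀ := a') (p := fun c => 0 < (-l) (D.P.root c) ∧ c = a') (fun c hc => hc.2)
    (by simpa only [and_assoc] using hg₁)
  have hK : n * g₂ * n⁻¹ ∈ Subgroup.closure {h | ∃ (c : D.idx) (y : Γ(Y.left, ⊤)),
      (l (D.P.root c) < 0 ∧ c ≠ a') ∧ h = P (D.u c) y} := by
    refine conj_mem_of_roots hnr [a] _ (fun c => 0 < (-l) (D.P.root c) ∧ c ≠ a') (fun c hc y => ?_)
      (by simpa only [and_assoc] using hg₂)
    rw [wordPerm_singleton]
    exact Subgroup.subset_closure ⟨_, y, refl_neg hA ha (by simpa using hc.1) hc.2, rfl⟩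
  have hKu : n * g₂ * n⁻¹ ∈ unip (D := D) (-l) Y := by
    refine (Subgroup.closure_le _).2 ?_ hK
    rintro h ⟨c, y, hc, rfl⟩
    exact root_mem_unip (by rw [AddMonoidHom.neg_apply]; have := hc.1; omega) y
  by_cases hx : x = 0
  · refine ⟨a :: L, n * g₂ * n⁻¹, v, hKu, hv, ?_⟩
    rw [rp_cons a L Y, hx, P_zero]; simp only [n]; group
  obtain ⟨x', hx'⟩ := exists_conj_root [a] _ (fun X => rep_rp hnr [a] X) a' x
  rw [wordPerm_singleton, ha', D.P.reflectionPerm_self] at hx'
  change n * P (D.u a') x * n⁻¹ = P (D.u a) x' at hx'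
  have hg3 := conj_others hA ha x' hK
  set g₃ := P (D.u a) x' * (n * g₂ * n⁻¹) * (P (D.u a) x')⁻¹ with hg₃
  have e : n * (P (D.u a') x * g₂ * rp nr L Y * v) = g₃ * (P (D.u a) x' * n * rp nr L Y) * v := by
    rw [hg₃, ← hx']; group
  rcases lt_or_gt_of_ne (hA.ne ((RedSub.wordPerm D.P (a :: L)).symm a)) with hneg | hpos
  · obtain ⟨p, q, t, hpq⟩ := exists_smallCell hA.ne hla _ (fun X => rep_rp hnr [a] X) hY hx
    change n * P (D.u a') x = P (D.u a') p * (t ≫ D.i) * P (D.u a) q at hpq
    have hpos' : 0 < l (D.P.root ((RedSub.wordPerm D.P L).symm a)) := by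
      have e1 : (RedSub.wordPerm D.P (a :: L)).symm a = (RedSub.wordPerm D.P L).symm a' := by
        rw [Equiv.symm_apply_eq, wordPerm_cons, Equiv.apply_symm_apply, ha', D.P.reflectionPerm_self]
      rw [e1, wordPerm_symm_neg, map_neg] at hneg
      omega
    have hb : (rp nr L Y)⁻¹ * P (D.u a) q * rp nr L Y ∈ bor (D := D) l Y :=
      inv_conj_mem_of_roots hnr L _ (· = a) (fun c hc y => by rw [hc]; exact unip_le_bor l Y (root_mem_unip hpos' y))
        (Subgroup.subset_closure ⟨a, q, rfl, rfl⟩)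
    refine ⟨L, g₃ * P (D.u a') p,
      (act D (wmap D L) t ≫ D.i) * ((rp nr L Y)⁻¹ * P (D.u a) q * rp nr L Y) * v,
      mul_mem hg3 (root_mem_unip (by rw [AddMonoidHom.neg_apply, ha', root_neg_idx, map_neg]; omega) p),
      mul_mem (mul_mem (torus_mem_bor l _) hb) hv, ?_⟩
    rw [e, show P (D.u a) x' * n = n * P (D.u a') x by rw [← hx']; group, hpq]
    calc g₃ * (P (D.u a') p * (t ≫ D.i) * P (D.u a) q * rp nr L Y) * v
        = g₃ * P (D.u a') p * ((t ≫ D.i) * rp nr L Y) * ((rp nr L Y)⁻¹ * P (D.u a) q * rp nr L Y) * v := by group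
      _ = _ := by rw [torus_rp hnr]; group
  · have hb : (rp nr (a :: L) Y)⁻¹ * P (D.u a) x' * rp nr (a :: L) Y ∈ bor (D := D) l Y :=
      inv_conj_mem_of_roots hnr (a :: L) _ (· = a) (fun c hc y => by rw [hc]; exact unip_le_bor l Y (root_mem_unip hpos y))
        (Subgroup.subset_closure ⟨a, x', rfl, rfl⟩)
    refine ⟨a :: L, g₃, (rp nr (a :: L) Y)⁻¹ * P (D.u a) x' * rp nr (a :: L) Y * v, hg3, mul_mem hb hv, ?_⟩
    rw [e, rp_cons a L Y]; simp only [n]; group

end Groth.Agent.H82.Bruhat
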