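import Groth.Agent.H82.Bruhat.Order

/-!
# Translates of the opposite cell meeting a double coset
-/

set_option autoImplicit false
set_option linter.style.haveILetI false
set_option linter.unusedSectionVars false
universe u

open CategoryTheory MonoidalCategory CartesianMonoidalCategory MonObj GrpObj AlgebraicGeometry
open Groth.Agent.Lib.RedPts Groth.Agent.H82.BigCell Groth.Agent.H82.Contract Groth.Agent.H82.Weyl
open Groth.Agent.H82.RankOne (P P_eq P_zero P_comp P_add P_neg)
open Groth.Agent.H82.Borel (IsACPt root_neg_idx exists_enum)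

namespace Groth.Agent.H82.Bruhat

variable {S : Scheme.{u}} {G : Over S} [GrpObj G] {D : Red.SplitRed G}
variable {b : D.P.Base} {l : D.M →+ ℤ} (hA : Adapted b l)
variable {nr : D.idx → (𝟙_ (Over S) ⟶ G)} (hnr : RedSub.RealisesReflections D nr)

theorem torus_mul_mul_inv (t : D.idx) (L : List D.idx) :
    RedSub.wordPerm D.P (t :: t :: L) = RedSub.wordPerm D.P L :=
  Equiv.ext fun c => by rw [wordPerm_cons, wordPerm_cons, D.P.reflectionPerm_self]

/-- Words with the same permutation of the roots act equally on the lattice. -/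
theorem wmap_eq {L L' : List D.idx} (h : RedSub.wordPerm D.P L = RedSub.wordPerm D.P L') :
    wmap D L = wmap D L' := by
  let N : AddSubgroup D.M :=
    { carrier := {m | ∀ a : D.idx, D.P.coroot a m = 0}
      zero_mem' := fun a => map_zero _
      add_mem' := fun hx hy a => by rw [map_add, hx a, hy a, add_zero]
      neg_mem' := fun hx a => by rw [map_neg, hx a, neg_zero] }
  have hfix : ∀ (L : List D.idx) (m : D.M), m ∈ N → wmap D L m = m := fun L => by
    induction L with
    | nil => intro m _; simp [wmap_nil]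
    | cons a L ih =>
      intro m hm
      rw [wmap_cons, AddMonoidHom.comp_apply, ih m hm]
      change D.P.reflection a m = m
      rw [D.P.reflection_apply, R2.Radical.coroot_eq, hm a, zero_smul, sub_zero]
  have hroot : ∀ q ∈ R2.Radical.rootLat D, wmap D L q = wmap D L' q := fun q hq => by
    induction hq using Submodule.span_induction with
    | mem q hq => obtain ⟨a, rfl⟩ := hq; rw [wmap_root, wmap_root, h]
    | zero => simp
    | add x y _ _ hx hy => rw [map_add, map_add, hx, hy]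
    | smul r x _ hx => rw [map_zsmul, map_zsmul, hx]
  refine AddMonoidHom.ext fun m => ?_
  obtain ⟨d, q, hd, hq, hm⟩ := R2.Radical.exists_decomp (N := N) (fun _ => Iff.rfl) m
  haveI : IsAddTorsionFree D.M := .of_isTorsionFree ℤ D.M
  refine nsmul_right_injective hd.ne' ?_
  change d • wmap D L m = d • wmap D L' m
  rw [← map_nsmul, ← map_nsmul, ← sub_add_cancel (d • m) q, map_add, map_add, hfix L _ hm, hfix L' _ hm,
    hroot q hq]

include hnr in
/-- Representatives of the same permutation differ by the torus. -/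
theorem exists_torus_eq {L L' : List D.idx} (h : RedSub.wordPerm D.P L = RedSub.wordPerm D.P L') (Y : Over S) :
    ∃ t : Y ⟶ D.T, rp nr L Y = rp nr L' Y * (t ≫ D.i) := by
  have h2 : Rep (L'.reverse ++ L) ((rp nr L' Y)⁻¹ * rp nr L Y) :=
    Rep.mul (rep_rp hnr L' Y).inv (rep_rp hnr L Y)
  have e : wmap D (L'.reverse ++ L).reverse = AddMonoidHom.id D.M := by
    rw [wmap_eq (L := (L'.reverse ++ L).reverse) (L' := []) ?_, wmap_nil]
    rw [List.reverse_append, List.reverse_reverse]
    refine Equiv.ext fun c => D.P.root.injective ?_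
    rw [← wmap_root, ← wmap_root, wmap_append, AddMonoidHom.comp_apply, wmap_root L',
      ← show RedSub.wordPerm D.P L c = RedSub.wordPerm D.P L' c by rw [h], ← wmap_root, wmap_nil]
    have := DFunLike.congr_fun (wmap_reverse_comp (D := D) L.reverse) (D.P.root c)
    rwa [List.reverse_reverse] at this
  unfold Rep at h2
  rw [e] at h2
  obtain ⟨t, ht⟩ := exists_torus_of_commute_torus (D := D) (g := (rp nr L' Y)⁻¹ * rp nr L Y) fun Z f s => by
    have := h2 Z f s
    rw [act_id, mul_inv_eq_iff_eq_mul] at this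
    exact this.symm
  exact ⟨t, by rw [ht]; group⟩

include hA in
/-- Simple reflections lift chains of covering steps. -/
theorem lift_chain [D.P.IsReduced] [D.P.IsCrystallographic] {a : D.idx} (ha : a ∈ b.support)
    {x y : Equiv.Perm D.idx} (hx : ∃ L, RedSub.wordPerm D.P L = x) (h : Relation.ReflTransGen (Step l) x y) :
    Relation.ReflTransGen (Step l) (D.P.reflectionPerm a * x) y ∨
      Relation.ReflTransGen (Step l) (D.P.reflectionPerm a * x) (D.P.reflectionPerm a * y) := by
  suffices H : (∃ L, RedSub.wordPerm D.P L = y) ∧ (Relation.ReflTransGen (Step l) (D.P.reflectionPerm a * x) y ∨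
      Relation.ReflTransGen (Step l) (D.P.reflectionPerm a * x) (D.P.reflectionPerm a * y)) from H.2
  induction h with
  | refl => exact ⟨hx, Or.inr Relation.ReflTransGen.refl⟩
  | @tail z w hz hzw ih =>
    obtain ⟨⟨L, rfl⟩, ih⟩ := ih
    refine ⟨?_, ?_⟩
    · obtain ⟨c, -, rfl, -⟩ := hzw
      exact ⟨c :: L, wordPerm_cons_eq c L⟩
    rcases ih with h' | h'
    · exact Or.inl (h'.tail hzw)
    · rw [← wordPerm_cons_eq a L] at h'
      rcases lift_step hA ha hzw with g | g
      · exact Or.inl (h'.trans g)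
      · exact Or.inr (h'.trans g)

include hA in
theorem exists_simple_desc {L : List D.idx} (h : len l (RedSub.wordPerm D.P L) ≠ 0) :
    ∃ a ∈ b.support, l (D.P.root ((RedSub.wordPerm D.P L).symm a)) < 0 := by
  by_contra hno
  push Not at hno
  obtain ⟨c, hc⟩ := Finset.card_ne_zero.1 h
  obtain ⟨h1, h2⟩ := mem_Jset.1 hc
  suffices H : ∀ v ∈ AddSubmonoid.closure (D.P.root '' (b.support : Set D.idx)), 0 ≤ l (wmap D L.reverse v) by
    have := H _ ((hA.pos c).2 h1)
    rw [← root_symm] at this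
    omega
  intro v hv
  induction hv using AddSubmonoid.closure_induction with
  | mem v hv => obtain ⟨a, ha, rfl⟩ := hv; rw [← root_symm]; exact hno a ha
  | zero => simp
  | add x y _ _ hx hy => rw [map_add, map_add]; omega

include hA hnr in
/-- A Weyl element keeping the positive roots positive is trivial. -/
theorem perm_eq_one [D.P.IsReduced] {L : List D.idx} (h : len l (RedSub.wordPerm D.P L) = 0) {Y : Over S}
    (hY : IsACPt Y) : RedSub.wordPerm D.P L = RedSub.wordPerm D.P ([] : List D.idx) := by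
  classical
  obtain ⟨n, m, e, e', he, he', -, -, ho⟩ := exists_cell hA.ne
  haveI := ho
  obtain ⟨X', c, z, z', -, hs, hz⟩ := Contract.exists_translate (e := e) (e' := e') (rp nr L Y)
  haveI := hs
  obtain ⟨o⟩ := nonempty_acPt hY
  obtain ⟨q, -⟩ := c.left.surjective o
  obtain ⟨Y', r, hY', -⟩ := exists_acPt X' q
  haveI := hY'.aff
  haveI := hY'.isField.nontrivial
  have key : ∀ w : Y' ⟶ RedSub.pow (Red.Ga S) n ⊗ (D.T ⊗ RedSub.pow (Red.Ga S) m), ∃ u v : Y' ⟶ G,
      u ∈ unip (D := D) (-l) Y' ∧ v ∈ bor (D := D) l Y' ∧ w ≫ RedSub.cellMap D e e' = u * v := fun w => by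
    refine ⟨_, _, ?_, ?_, comp_cellMap (e := e) e' w⟩
    · rw [comp_prodMap]
      refine prodPts_mem_subgroup fun j => ?_
      rw [← Category.assoc, P_eq]
      exact root_mem_unip (by rw [AddMonoidHom.neg_apply]; have := he j; omega) _
    · refine mul_mem (torus_mem_bor l _) ?_
      rw [comp_prodMap]
      refine prodPts_mem_subgroup fun j => ?_
      rw [← Category.assoc, P_eq]
      exact unip_le_bor l _ (root_mem_unip (he' j) _)
  obtain ⟨u, v, hu, hv, e1⟩ := key (r ≫ z)
  obtain ⟨u', v', hu', hv', e2⟩ := key (r ≫ z')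
  have hrel : rp nr L Y' * (u * v) = u' * v' := by
    rw [← e1, ← e2, Category.assoc, Category.assoc, ← hz, MonObj.comp_mul, ← Category.assoc r c, rp_comp]
  have hconj : rp nr L Y' * u * (rp nr L Y')⁻¹ ∈ unip (D := D) (-l) Y' := by
    obtain ⟨k, d, hd⟩ := exists_enum (D := D) {a | 0 < (-l) (D.P.root a)}
    obtain ⟨x, rfl⟩ := exists_prod_unip (fun a => by simpa using hA.ne a) d hd hu
    refine conj_mem_of_roots hnr L _ (fun c => 0 < (-l) (D.P.root c)) (fun c hc y => root_mem_unip ?_ y)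
      (prodPts_mem_subgroup fun i => Subgroup.subset_closure ⟨d i, _, Set.ext_iff.1 hd.2 _ |>.1 (Set.mem_range_self i), rfl⟩)
    rw [AddMonoidHom.neg_apply] at hc ⊢
    by_contra hle
    have h1 := hA.ne (RedSub.wordPerm D.P L c)
    have hmem : RedSub.wordPerm D.P L c ∈ Jset l (RedSub.wordPerm D.P L) :=
      mem_Jset.2 ⟨by omega, by rw [Equiv.symm_apply_apply]; omega⟩
    exact absurd h (Finset.card_ne_zero.2 ⟨_, hmem⟩)
  refine wordPerm_eq hA hnr (g := rp nr L Y' * (u * v)) ⟨_, v, hconj, hv, by group⟩ ⟨u', v', hu', hv', ?_⟩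
  rw [hrel, show rp nr ([] : List D.idx) Y' = (1 : Y' ⟶ G) by simp [rp, MonObj.comp_one], _root_.mul_one]

/-- The double coset of a word. -/
def InBB (nr : D.idx → (𝟙_ (Over S) ⟶ G)) (l : D.M →+ ℤ) (L : List D.idx) {Y : Over S} (g : Y ⟶ G) : Prop :=
  ∃ v v' : Y ⟶ G, v ∈ bor (D := D) l Y ∧ v' ∈ bor (D := D) l Y ∧ g = v * rp nr L Y * v'

include hA in
/-- A point of the Borel part splits. -/
theorem bor_split {Y : Over S} {v : Y ⟶ G} (hv : v ∈ bor (D := D) l Y) :
    ∃ (u : Y ⟶ G) (t : Y ⟶ D.T), u ∈ unip (D := D) l Y ∧ v = u * (t ≫ D.i) := by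
  obtain ⟨m, e, he⟩ := exists_enum (D := D) {a | 0 < l (D.P.root a)}
  obtain ⟨t, w, rfl⟩ := exists_bor_form hA e (by rw [posRoots_eq hA]; exact he) hv
  have hu : (w ≫ RedSub.prodMap (Red.Ga S) m fun j => D.u (e j)) ∈ unip (D := D) l Y := by
    rw [comp_prodMap]
    refine prodPts_mem_subgroup fun j => ?_
    rw [← Category.assoc, P_eq]
    exact root_mem_unip (Set.ext_iff.1 he.2 _ |>.1 (Set.mem_range_self j)) _
  exact ⟨_, t, torus_conj_unip l t hu, by group⟩

include hA hnr in
set_option maxHeartbeats 800000 in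
/-- The translate of the opposite cell by a representative meets the double cosets above it only. -/
theorem le_of_meet [D.P.IsReduced] [D.P.IsCrystallographic] {Y : Over S} (hY : IsACPt Y) (L V : List D.idx)
    {g u v : Y ⟶ G} (hg : InBB nr l L g) (hu : u ∈ unip (D := D) (-l) Y) (hv : v ∈ bor (D := D) l Y)
    (e : g = rp nr V Y * u * v) :
    Relation.ReflTransGen (Step l) (RedSub.wordPerm D.P V) (RedSub.wordPerm D.P L) := by
  classical
  induction hk : len l (RedSub.wordPerm D.P L) using Nat.strong_induction_on generalizing L V g u v with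
  | _ k ih =>
  subst hk
  haveI := hY.aff
  haveI := hY.isField.nontrivial
  haveI := isAffineHom D
  obtain ⟨v₁, v₂, hv₁, hv₂, hg⟩ := hg
  by_cases h0 : len l (RedSub.wordPerm D.P L) = 0
  · have hL := perm_eq_one hA hnr h0 hY
    obtain ⟨t, ht⟩ := exists_torus_eq hnr hL Y
    rw [show rp nr ([] : List D.idx) Y = (1 : Y ⟶ G) by simp [rp, MonObj.comp_one], _root_.one_mul] at ht
    have hb : v * g⁻¹ ∈ bor (D := D) l Y := by
      rw [hg, ht]; exact mul_mem hv (inv_mem (mul_mem (mul_mem hv₁ (torus_mem_bor l t)) hv₂))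
    obtain ⟨L₁, hL₁⟩ := hb
    obtain ⟨s, hs⟩ := exists_torus_of_regular hA.ne (Borel.commutes_of_isLimPt hL₁)
    have hu' : (s ≫ D.i)⁻¹ * (v * g⁻¹) ∈ unip (D := D) l Y := by
      have := (isLimPt_torus_pt (l := l) s).inv.mul hL₁
      rwa [← hs, inv_mul_cancel] at this
    have h1 : (rp nr V Y)⁻¹ = u * (s ≫ D.i) * ((s ≫ D.i)⁻¹ * (v * g⁻¹)) := by rw [e]; group
    have hid := wordPerm_eq_of_cell hA.ne (rep_rp hnr V Y).inv s hu hu' h1
    rw [hL]
    rw [show RedSub.wordPerm D.P V = RedSub.wordPerm D.P ([] : List D.idx) from Equiv.ext fun c => by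
      refine D.P.root.injective ?_
      have h2 := DFunLike.congr_fun (wmap_reverse_comp (D := D) V) (D.P.root c)
      rw [AddMonoidHom.comp_apply, wmap_root V.reverse, hid, AddMonoidHom.id_apply, wmap_root] at h2
      exact h2]
  obtain ⟨a, ha, hneg⟩ := exists_simple_desc hA h0
  have hla := simple_pos hA ha
  set a' := D.P.reflectionPerm a a with ha'
  set n := rp nr [a] Y with hn
  have hlen := len_cons_lt hA ha hneg
  obtain ⟨τ, hτ⟩ := exists_torus_eq hnr (L := L) (L' := [a] ++ (a :: L)) (torus_mul_mul_inv a L).symm Y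
  obtain ⟨u₁, t₁, hu₁, rfl⟩ := bor_split hA hv₁
  obtain ⟨g₁, g₂, rfl, hg₁, hg₂⟩ := exists_split (l := l) hA.ne (· = a) hu₁
  obtain ⟨x, rfl⟩ := exists_single (c₀ := a) (p := fun c => 0 < l (D.P.root c) ∧ c = a) (fun c hc => hc.2)
    (by simpa only [and_assoc] using hg₁)
  set t₂ := act D (wmap D [a]) t₁
  have htn : (t₁ ≫ D.i) * n = n * (t₂ ≫ D.i) := torus_rp hnr [a] t₁
  have hg₂' : n⁻¹ * g₂ * n ∈ bor (D := D) l Y := by
    refine inv_conj_mem_of_roots hnr [a] _ (fun c => 0 < l (D.P.root c) ∧ c ≠ a) (fun c hc y => ?_)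
      (by simpa only [and_assoc] using hg₂)
    refine unip_le_bor l Y (root_mem_unip ?_ y)
    rw [show (RedSub.wordPerm D.P [a]).symm c = D.P.reflectionPerm a c by
      rw [Equiv.symm_apply_eq, wordPerm_singleton, D.P.reflectionPerm_self]]
    exact refl_pos hA ha hc.1 hc.2
  set g' := (n⁻¹ * g₂ * n * (t₂ ≫ D.i)) * rp nr (a :: L) Y * ((τ ≫ D.i) * v₂) with hg'
  have hg'B : InBB nr l (a :: L) g' :=
    ⟨_, _, mul_mem hg₂' (torus_mem_bor l _), mul_mem (torus_mem_bor l _) hv₂, rfl⟩
  have eg : g = P (D.u a) x * n * g' := by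
    have h2 : rp nr ([a] ++ (a :: L)) Y = n * rp nr (a :: L) Y := rp_cons a (a :: L) Y
    rw [hg, hτ, h2, hg']
    calc P (D.u a) x * g₂ * (t₁ ≫ D.i) * (n * rp nr (a :: L) Y * (τ ≫ D.i)) * v₂
        = P (D.u a) x * g₂ * ((t₁ ≫ D.i) * n) * rp nr (a :: L) Y * ((τ ≫ D.i) * v₂) := by group
      _ = _ := by rw [htn]; group
  have hstepL : Step l (RedSub.wordPerm D.P (a :: L)) (RedSub.wordPerm D.P L) :=
    ⟨a, hla, by rw [← wordPerm_cons_eq, torus_mul_mul_inv], hlen⟩
  have hrec : ∀ (V' : List D.idx) (h u' v' : Y ⟶ G), InBB nr l (a :: L) h → u' ∈ unip (D := D) (-l) Y →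
      v' ∈ bor (D := D) l Y → h = rp nr V' Y * u' * v' →
      Relation.ReflTransGen (Step l) (RedSub.wordPerm D.P V') (RedSub.wordPerm D.P (a :: L)) :=
    fun V' h u' v' hh hu' hv' he => ih _ (by omega) (a :: L) V' hh hu' hv' he rfl
  -- pull `n` through the translate
  have hshift : ∀ (u' : Y ⟶ G), u' ∈ unip (D := D) (-l) Y → P (D.u a) x * n * g' * v⁻¹ = P (D.u a) x * rp nr V Y * u' →
      ∃ u'' v'' : Y ⟶ G, u'' ∈ unip (D := D) (-l) Y ∧ v'' ∈ bor (D := D) l Y ∧ g' = rp nr (a :: V) Y * u'' * v'' := by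
    intro u' hu' h
    obtain ⟨q, hq⟩ := exists_torus_square hnr a Y
    have h1 : n⁻¹ = n * (q⁻¹ ≫ D.i) := by rw [GrpObj.inv_comp q D.i, hq, hn]; group
    set q' := act D (wmap D V) q⁻¹
    refine ⟨(q' ≫ D.i) * u' * (q' ≫ D.i)⁻¹, (q' ≫ D.i) * v, torus_conj_unip (-l) q' hu',
      mul_mem (torus_mem_bor l _) hv, ?_⟩
    rw [rp_cons a V Y, ← hn]
    calc g' = n⁻¹ * ((P (D.u a) x)⁻¹ * (P (D.u a) x * n * g' * v⁻¹)) * v := by group
      _ = n * ((q⁻¹ ≫ D.i) * rp nr V Y) * u' * v := by rw [h, h1]; group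
      _ = _ := by
        rw [torus_rp hnr]
        group
        simp only [q', zpow_neg_one]
  rcases lt_or_gt_of_ne (hA.ne ((RedSub.wordPerm D.P V).symm a)) with hVa | hVa
  · -- the root element moves into the opposite unipotent part
    have hmem : (rp nr V Y)⁻¹ * (P (D.u a) x)⁻¹ * rp nr V Y ∈ unip (D := D) (-l) Y :=
      inv_conj_mem_of_roots hnr V _ (· = a) (fun c hc y => by
        rw [hc]; exact root_mem_unip (by rw [AddMonoidHom.neg_apply]; omega) y)
        (inv_mem (Subgroup.subset_closure ⟨a, x, rfl, rfl⟩))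
    obtain ⟨u'', v'', hu'', hv'', e'⟩ := hshift ((rp nr V Y)⁻¹ * (P (D.u a) x)⁻¹ * rp nr V Y * u) (mul_mem hmem hu) (by
      rw [← eg, e]; group)
    have hr := hrec (a :: V) g' u'' v'' hg'B hu'' hv'' e'
    have hV : D.P.reflectionPerm a * RedSub.wordPerm D.P (a :: V) = RedSub.wordPerm D.P V := by
      rw [← wordPerm_cons_eq, torus_mul_mul_inv]
    have hLa : D.P.reflectionPerm a * RedSub.wordPerm D.P (a :: L) = RedSub.wordPerm D.P L := by
      rw [← wordPerm_cons_eq, torus_mul_mul_inv]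
    rcases lift_chain hA ha ⟨a :: V, rfl⟩ hr with h | h
    · rw [hV] at h; exact h.tail hstepL
    · rwa [hV, hLa] at h
  · by_cases hx : x = 0
    · obtain ⟨u'', v'', hu'', hv'', e'⟩ := hshift u hu (by rw [← eg, e, hx, P_zero]; group)
      have hr := hrec (a :: V) g' u'' v'' hg'B hu'' hv'' e'
      exact ((Relation.ReflTransGen.single
        ⟨a, hla, wordPerm_cons_eq a V, len_cons_gt hA ha hVa⟩).trans hr).tail hstepL
    · obtain ⟨y', hy'⟩ := exists_conj_root [a].reverse ((([a] : List D.idx).map nr).prod)⁻¹ (fun X => by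
        rw [GrpObj.comp_inv]; exact (rep_rp hnr [a] X).inv) a x
      rw [GrpObj.comp_inv, _root_.inv_inv] at hy'
      change n⁻¹ * P (D.u a) x * n = P (D.u (RedSub.wordPerm D.P [a].reverse a)) y' at hy'
      rw [List.reverse_singleton, wordPerm_singleton, ← ha'] at hy'
      have hy0 : y' ≠ 0 := fun h => hx (by
        rw [h, P_zero, mul_inv_eq_one.symm] at hy'
        have h3 : P (D.u a) x = 1 := by
          have := congrArg (fun z => n * z * n⁻¹) hy'
          simpa [_root_.mul_assoc] using this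
        haveI : Mono (D.u a) := mono_of_isClosedImmersion _ (D.rootHom a).2.1
        have h4 := congrArg Red.gaFn ((cancel_mono (D.u a)).1 (h3.trans (P_zero (pp := D.u a) (X := Y)).symm))
        rwa [Ga.gaFn_gaPt, Ga.gaFn_gaPt] at h4)
      obtain ⟨p, q, t, hpq⟩ := exists_smallCell hA.ne hla _ (fun X => rep_rp hnr [a] X) hY hy0
      change n * P (D.u a') y' = P (D.u a') p * (t ≫ D.i) * P (D.u a) q at hpq
      have e2 : P (D.u a) x * n = P (D.u a') p * (t ≫ D.i) * P (D.u a) q := by
        rw [← hpq, ← hy']; group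
      have hmem : (rp nr V Y)⁻¹ * (P (D.u a') p)⁻¹ * rp nr V Y ∈ unip (D := D) (-l) Y :=
        inv_conj_mem_of_roots hnr V _ (· = a') (fun c hc y => by
          rw [hc]; exact root_mem_unip (by
            rw [AddMonoidHom.neg_apply, ha', wordPerm_symm_neg, map_neg]; omega) y)
          (inv_mem (Subgroup.subset_closure ⟨a', p, rfl, rfl⟩))
      have hgB : InBB nr l (a :: L) ((t ≫ D.i) * P (D.u a) q * g') :=
        ⟨(t ≫ D.i) * P (D.u a) q * (n⁻¹ * g₂ * n * (t₂ ≫ D.i)), (τ ≫ D.i) * v₂,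
          mul_mem (mul_mem (torus_mem_bor l _) (unip_le_bor l Y (root_mem_unip hla q)))
            (mul_mem hg₂' (torus_mem_bor l _)), mul_mem (torus_mem_bor l _) hv₂, by rw [hg']; group⟩
      have hr := hrec V _ ((rp nr V Y)⁻¹ * (P (D.u a') p)⁻¹ * rp nr V Y * u) v hgB (mul_mem hmem hu) hv (by
        have e3 : P (D.u a') p * ((t ≫ D.i) * P (D.u a) q * g') = rp nr V Y * u * v := by
          rw [← e, eg, e2]; group
        calc (t ≫ D.i) * P (D.u a) q * g'
            = (P (D.u a') p)⁻¹ * (P (D.u a') p * ((t ≫ D.i) * P (D.u a) q * g')) := by group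
          _ = _ := by rw [e3]; group)
      exact hr.tail hstepL

end Groth.Agent.H82.Bruhat
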