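import Groth.Agent.H82.Bruhat.Cover

/-!
# The images of the Bruhat cell maps
-/

set_option autoImplicit false
set_option linter.style.haveILetI false
set_option linter.unusedSectionVars false
universe u

open CategoryTheory MonoidalCategory CartesianMonoidalCategory MonObj GrpObj AlgebraicGeometry
open Groth.Agent.Lib.RedPts Groth.Agent.H82.BigCell Groth.Agent.H82.Contract Groth.Agent.H82.Weyl
open Groth.Agent.H82.RankOne (P P_eq P_zero P_comp P_add P_neg)
open Groth.Agent.H82.Borel (IsACPt root_neg_idx exists_enum)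

namespace Groth.Agent.H82.Bruhat

variable {S : Scheme.{u}} {G : Over S} [GrpObj G] {D : Red.SplitRed G}
variable {b : D.P.Base} {l : D.M →+ ℤ} (hA : Adapted b l)
variable {nr : D.idx → (𝟙_ (Over S) ⟶ G)}

theorem comp_bruhatMap (L : List D.idx) {k m : ℕ} (e : Fin k → D.idx) (epos : Fin m → D.idx) {X : Over S}
    (z : X ⟶ RedSub.pow (Red.Ga S) k ⊗ (D.T ⊗ RedSub.pow (Red.Ga S) m)) :
    z ≫ RedSub.bruhatMap D nr L e epos = ((z ≫ fst _ _) ≫ RedSub.prodMap (Red.Ga S) k fun j => D.u (e j)) *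
      (rp nr L X * (((z ≫ snd _ _ ≫ fst _ _) ≫ D.i) *
        ((z ≫ snd _ _ ≫ snd _ _) ≫ RedSub.prodMap (Red.Ga S) m fun j => D.u (epos j)))) := by
  simp only [RedSub.bruhatMap, MonObj.comp_mul, Category.assoc, rp]
  rw [← Category.assoc z (toUnit _), toUnit_unique (z ≫ toUnit _) (toUnit X)]

include hA in
theorem negRoots_eq : RedSub.negRoots D.P b = {a | 0 < (-l) (D.P.root a)} := by
  ext a
  rw [hA.neg a]
  simp

include hA in
theorem posRoots_eq : RedSub.posRoots D.P b = {a | 0 < l (D.P.root a)} := Set.ext hA.pos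

include hA in
/-- Points of the Borel part in product form. -/
theorem exists_bor_form {m : ℕ} (epos : Fin m → D.idx) (hpos : RedSub.Enumerates (RedSub.posRoots D.P b) epos)
    {X : Over S} {v : X ⟶ G} (hv : v ∈ bor (D := D) l X) :
    ∃ (t : X ⟶ D.T) (w : X ⟶ RedSub.pow (Red.Ga S) m),
      v = (t ≫ D.i) * (w ≫ RedSub.prodMap (Red.Ga S) m fun j => D.u (epos j)) := by
  obtain ⟨n, e, he⟩ := exists_enum (D := D) {a | 0 < (-l) (D.P.root a)}
  rw [posRoots_eq hA] at hpos
  obtain ⟨h1, h2, ho⟩ := isOpenImmersion_cell hA.ne he hpos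
  haveI := ho
  obtain ⟨z, hz⟩ := (Borel.exists_iff_lim (e := e) hA.ne h1 h2 v).2 hv
  exact ⟨z ≫ fst _ _, z ≫ snd _ _, hz.symm.trans (Borel.comp_borelMap z)⟩

include hA in
/-- A point of a cell, normalised along a given enumeration of the negative roots staying negative. -/
theorem exists_normal_form [D.P.IsReduced] (hnr : RedSub.RealisesReflections D nr) {L : List D.idx} {k : ℕ}
    (e : Fin k → D.idx) (he : RedSub.Enumerates (RedSub.negMeetNeg D.P b (RedSub.wordPerm D.P L)) e)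
    {X : Over S} {g : X ⟶ G} (hg : InCell nr l L g) :
    ∃ (y : X ⟶ RedSub.pow (Red.Ga S) k) (v : X ⟶ G), v ∈ bor (D := D) l X ∧
      (rp nr L X)⁻¹ * (y ≫ RedSub.prodMap (Red.Ga S) k fun j => D.u (e j)) * rp nr L X ∈ unip (D := D) (-l) X ∧
      g = (y ≫ RedSub.prodMap (Red.Ga S) k fun j => D.u (e j)) * rp nr L X * v := by
  classical
  obtain ⟨u, v, hu, hv, rfl⟩ := hg
  obtain ⟨m, d', hd'⟩ := exists_enum (D := D)
    {a | 0 < (-l) (D.P.root a) ∧ ¬ l (D.P.root ((RedSub.wordPerm D.P L).symm a)) < 0}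
  have h1 : ∀ j, l (D.P.root (e j)) < 0 ∧ l (D.P.root ((RedSub.wordPerm D.P L).symm (e j))) < 0 := fun j => by
    obtain ⟨a1, a2⟩ := Set.ext_iff.1 he.2 _ |>.1 (Set.mem_range_self j)
    exact ⟨(hA.neg _).1 a1, (hA.neg _).1 a2⟩
  have h2 : ∀ j, 0 < (-l) (D.P.root (d' j)) ∧ ¬ l (D.P.root ((RedSub.wordPerm D.P L).symm (d' j))) < 0 := fun j =>
    Set.ext_iff.1 hd'.2 _ |>.1 (Set.mem_range_self j)
  have hed : RedSub.Enumerates {a | 0 < (-l) (D.P.root a)} (Fin.append e d') := by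
    refine ⟨Fin.append_injective_iff.2 ⟨he.1, hd'.1, fun i j h => (h2 j).2 (h ▸ (h1 i).2)⟩, Set.ext fun a => ⟨?_, fun ha => ?_⟩⟩
    · rintro ⟨j, rfl⟩
      refine Fin.addCases (fun i => ?_) (fun i => ?_) j
      · rw [Fin.append_left]; change 0 < (-l) _; rw [AddMonoidHom.neg_apply]; have := (h1 i).1; omega
      · rw [Fin.append_right]; exact (h2 i).1
    · by_cases h : l (D.P.root ((RedSub.wordPerm D.P L).symm a)) < 0
      · have ha' : 0 < (-l) (D.P.root a) := ha
        rw [AddMonoidHom.neg_apply] at ha'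
        obtain ⟨i, hi⟩ := (Set.ext_iff.1 he.2 a).2 ⟨(hA.neg _).2 (by omega), (hA.neg _).2 h⟩
        exact ⟨Fin.castAdd _ i, by rw [Fin.append_left, hi]⟩
      · obtain ⟨i, hi⟩ := (Set.ext_iff.1 hd'.2 a).2 ⟨ha, h⟩
        exact ⟨Fin.natAdd _ i, by rw [Fin.append_right, hi]⟩
  obtain ⟨z, hz⟩ := exists_prod_unip (fun c => by simpa using hA.ne c) _ hed hu
  have hfun : (fun j => P (D.u (Fin.append e d' j)) (z j)) = Fin.append
      (fun i => P (D.u (e i)) (z (Fin.castAdd m i))) (fun i => P (D.u (d' i)) (z (Fin.natAdd k i))) := by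
    funext j
    refine Fin.addCases (fun i => ?_) (fun i => ?_) j <;> simp [Fin.append_left, Fin.append_right]
  rw [hfun, prodPts_append] at hz
  set n := rp nr L X
  set w₁ := prodPts k fun i => P (D.u (e i)) (z (Fin.castAdd m i)) with hw₁
  set w₂ := prodPts m fun i => P (D.u (d' i)) (z (Fin.natAdd k i))
  have hy : (tuple k fun i => Ga.gaPt (z (Fin.castAdd m i))) ≫ RedSub.prodMap (Red.Ga S) k (fun j => D.u (e j)) = w₁ := by
    rw [comp_prodMap]
    refine congrArg _ (funext fun i => ?_)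
    rw [← Category.assoc, tuple_proj]; rfl
  have hb : n⁻¹ * w₂ * n ∈ bor (D := D) l X :=
    inv_conj_mem_of_roots hnr L _ (fun c => ∃ i, d' i = c)
      (fun c ⟨i, hi⟩ y => unip_le_bor l X (root_mem_unip (by
        have := hA.ne ((RedSub.wordPerm D.P L).symm c); rw [← hi] at *; have := (h2 i).2; omega) y))
      (prodPts_mem_subgroup fun i => Subgroup.subset_closure ⟨d' i, _, ⟨i, rfl⟩, rfl⟩)
  refine ⟨tuple k fun i => Ga.gaPt (z (Fin.castAdd m i)), n⁻¹ * w₂ * n * v, mul_mem hb hv, ?_, ?_⟩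
  · rw [hy]
    exact inv_conj_mem_of_roots hnr L _ (fun c => ∃ i, e i = c)
      (fun c ⟨i, hi⟩ y => root_mem_unip (by
        rw [← hi, AddMonoidHom.neg_apply]; have := (h1 i).2; omega) y)
      (prodPts_mem_subgroup fun i => Subgroup.subset_closure ⟨e i, _, ⟨i, rfl⟩, rfl⟩)
  · rw [hy, hz]; group

include hA in
/-- A point of the image of a Bruhat cell map lies in the cell. -/
theorem inCell_of_comp {L : List D.idx} {k m : ℕ} (e : Fin k → D.idx)
    (he : RedSub.Enumerates (RedSub.negMeetNeg D.P b (RedSub.wordPerm D.P L)) e) (epos : Fin m → D.idx)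
    (hpos : RedSub.Enumerates (RedSub.posRoots D.P b) epos) {X : Over S}
    (z : X ⟶ RedSub.pow (Red.Ga S) k ⊗ (D.T ⊗ RedSub.pow (Red.Ga S) m)) :
    InCell nr l L (z ≫ RedSub.bruhatMap D nr L e epos) := by
  refine ⟨_, _, ?_, ?_, (comp_bruhatMap L e epos z).trans (_root_.mul_assoc _ _ _).symm⟩
  · rw [comp_prodMap]
    refine prodPts_mem_subgroup fun j => ?_
    rw [← Category.assoc, P_eq]
    have := (hA.neg _).1 (Set.ext_iff.1 he.2 _ |>.1 (Set.mem_range_self j)).1
    exact root_mem_unip (by rw [AddMonoidHom.neg_apply]; omega) _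
  · refine mul_mem (torus_mem_bor l _) ?_
    rw [comp_prodMap]
    refine prodPts_mem_subgroup fun j => ?_
    rw [← Category.assoc, P_eq]
    exact unip_le_bor l X (root_mem_unip ((hA.pos _).1 (Set.ext_iff.1 hpos.2 _ |>.1 (Set.mem_range_self j))) _)

theorem nonempty_acPt {Y : Over S} (hY : IsACPt Y) : Nonempty Y.left := by
  haveI := hY.isField.nontrivial
  by_contra h
  rw [not_nonempty_iff] at h
  haveI := h
  exact not_subsingleton Γ(Y.left, ⊤) inferInstance

end Groth.Agent.H82.Bruhat
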