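import Groth.Agent.H82.R2.TranslateCover
import Groth.Agent.H82.Bruhat.Range
import Groth.Agent.Lib.GrpSch.Basic

/-!
# The Bruhat cells are closed in translates of the big cell
-/

set_option autoImplicit false
set_option linter.style.haveILetI false
set_option linter.unusedSectionVars false
universe u

open CategoryTheory MonoidalCategory CartesianMonoidalCategory MonObj GrpObj AlgebraicGeometry
open Groth.Agent.Lib.RedPts Groth.Agent.H82.BigCell Groth.Agent.H82.Contract Groth.Agent.H82.Weyl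
open Groth.Agent.H82.RankOne (P P_eq P_zero P_comp P_add P_neg)

namespace Groth.Agent.H82.Bruhat

variable {S : Scheme.{u}} {G : Over S} [GrpObj G] {D : Red.SplitRed G}

/-- Left translation by a point over the base. -/
noncomputable def lmul (g : 𝟙_ (Over S) ⟶ G) : G ⟶ G := (toUnit G ≫ g) * 𝟙 G

/-- Right translation by a point over the base. -/
noncomputable def rmul (g : 𝟙_ (Over S) ⟶ G) : G ⟶ G := 𝟙 G * (toUnit G ≫ g)

theorem comp_lmul (g : 𝟙_ (Over S) ⟶ G) {X : Over S} (x : X ⟶ G) : x ≫ lmul g = (toUnit X ≫ g) * x := by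
  rw [lmul, MonObj.comp_mul, ← Category.assoc, toUnit_unique (x ≫ toUnit G) (toUnit X), Category.comp_id]

theorem comp_rmul (g : 𝟙_ (Over S) ⟶ G) {X : Over S} (x : X ⟶ G) : x ≫ rmul g = x * (toUnit X ≫ g) := by
  rw [rmul, MonObj.comp_mul, ← Category.assoc, toUnit_unique (x ≫ toUnit G) (toUnit X), Category.comp_id]

instance isIso_lmul (g : 𝟙_ (Over S) ⟶ G) : IsIso (lmul g) :=
  ⟨lmul g⁻¹, by rw [comp_lmul, lmul, GrpObj.comp_inv, inv_mul_cancel_left],
    by rw [comp_lmul, lmul, GrpObj.comp_inv, mul_inv_cancel_left]⟩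

instance isIso_rmul (g : 𝟙_ (Over S) ⟶ G) : IsIso (rmul g) :=
  ⟨rmul g⁻¹, by rw [comp_rmul, rmul, GrpObj.comp_inv, mul_inv_cancel_right],
    by rw [comp_rmul, rmul, GrpObj.comp_inv, inv_mul_cancel_right]⟩

instance isIso_lmul_left (g : 𝟙_ (Over S) ⟶ G) : IsIso (lmul g).left :=
  inferInstanceAs (IsIso ((Over.forget S).map (lmul g)))

instance isIso_rmul_left (g : 𝟙_ (Over S) ⟶ G) : IsIso (rmul g).left :=
  inferInstanceAs (IsIso ((Over.forget S).map (rmul g)))

variable {b : D.P.Base} {nr : D.idx → (𝟙_ (Over S) ⟶ G)}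

theorem isImmersion_bruhatMap {n m : ℕ} (eneg : Fin n → D.idx) (epos : Fin m → D.idx)
    (hneg : RedSub.Enumerates (RedSub.negRoots D.P b) eneg) (hpos : RedSub.Enumerates (RedSub.posRoots D.P b) epos)
    (hnr : RedSub.RealisesReflections D nr) (L : List D.idx) {k : ℕ}
    (e : Fin k → D.idx) (he : RedSub.Enumerates (RedSub.negMeetNeg D.P b (RedSub.wordPerm D.P L)) e) :
    IsImmersion (RedSub.bruhatMap D nr L e epos).left ∧
      ∃ C : Set ↥G.left, IsClosed C ∧
        Set.range (RedSub.bruhatMap D nr L e epos).left.base =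
          Set.range ((toUnit _ ≫ (L.map nr).prod) * RedSub.cellMap D eneg epos).left.base ∩ C := by
  haveI := R2.reduced_of_base b
  haveI := isOpenImmersion_of_base b eneg epos hneg hpos
  obtain ⟨l, hA⟩ := exists_adapted b
  have he' : ∀ j, l (D.P.root (e j)) < 0 ∧ l (D.P.root ((RedSub.wordPerm D.P L).symm (e j))) < 0 := fun j => by
    obtain ⟨a1, a2⟩ := Set.ext_iff.1 he.2 _ |>.1 (Set.mem_range_self j)
    exact ⟨(hA.neg _).1 a1, (hA.neg _).1 a2⟩
  have hneg' : RedSub.Enumerates {a | 0 < (-l) (D.P.root a)} eneg := negRoots_eq hA ▸ hneg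
  have hn : ∀ j, l (D.P.root (eneg j)) < 0 := fun j =>
    (hA.neg _).1 (Set.ext_iff.1 hneg.2 _ |>.1 (Set.mem_range_self j))
  set w := (L.map nr).prod
  set Pe := RedSub.prodMap (Red.Ga S) k fun j => D.u (e j)
  set Pn := RedSub.prodMap (Red.Ga S) n fun j => D.u (eneg j)
  -- the conjugate of the small product lies in the negative unipotent part
  have hg : (rp nr L (RedSub.pow (Red.Ga S) k))⁻¹ * Pe * rp nr L (RedSub.pow (Red.Ga S) k) ∈
      unip (D := D) (-l) (RedSub.pow (Red.Ga S) k) := by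
    refine inv_conj_mem_of_roots hnr L _ (fun c => ∃ j, e j = c)
      (fun c ⟨j, hj⟩ y => root_mem_unip (by
        rw [← hj, AddMonoidHom.neg_apply]; have := (he' j).2; omega) y) ?_
    rw [show Pe = 𝟙 _ ≫ Pe from (Category.id_comp _).symm, comp_prodMap]
    refine prodPts_mem_subgroup fun j => ?_
    rw [← Category.assoc, P_eq]
    exact Subgroup.subset_closure ⟨e j, _, ⟨j, rfl⟩, rfl⟩
  obtain ⟨z, hz⟩ := exists_prod_unip (fun a => by simpa using hA.ne a) eneg hneg' hg
  let ψ : RedSub.pow (Red.Ga S) k ⟶ RedSub.pow (Red.Ga S) n := tuple n fun j => Ga.gaPt (z j)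
  have hψ : ψ ≫ Pn = Pe ≫ rmul w ≫ lmul w⁻¹ := by
    rw [comp_prodMap, ← Category.assoc, comp_lmul, comp_rmul, GrpObj.comp_inv, ← _root_.mul_assoc]
    refine Eq.trans ?_ hz.symm
    refine congrArg _ (funext fun j => ?_)
    rw [← Category.assoc, tuple_proj]
    rfl
  haveI : IsClosedImmersion Pn.left := mono_prodMap_neg hneg.1 hn
  haveI : IsClosedImmersion Pe.left := mono_prodMap_neg he.1 fun j => (he' j).1
  haveI : IsClosedImmersion (ψ.left ≫ Pn.left) := by
    rw [← Over.comp_left, hψ, Over.comp_left, Over.comp_left]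
    infer_instance
  haveI : IsClosedImmersion ψ.left := IsClosedImmersion.of_comp ψ.left Pn.left
  have hfac : RedSub.bruhatMap D nr L e epos =
      (ψ ▷ (D.T ⊗ RedSub.pow (Red.Ga S) m)) ≫ RedSub.cellMap D eneg epos ≫ lmul w := by
    rw [← Category.assoc, comp_lmul]
    rw [comp_cellMap (e := eneg) epos, ← Category.id_comp (RedSub.bruhatMap D nr L e epos), comp_bruhatMap,
      Category.id_comp]
    have hψ' : ∀ {X : Over S} (f : X ⟶ RedSub.pow (Red.Ga S) k),
        f ≫ ψ ≫ Pn = (toUnit X ≫ w)⁻¹ * ((f ≫ Pe) * (toUnit X ≫ w)) := fun f => by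
      rw [hψ, ← Category.assoc, ← Category.assoc, comp_lmul, comp_rmul, GrpObj.comp_inv]
    simp only [Category.id_comp, Category.assoc, whiskerRight_fst_assoc, whiskerRight_snd_assoc, rp]
    rw [hψ']
    group
    rfl
  have ht : (toUnit _ ≫ w) * RedSub.cellMap D eneg epos = RedSub.cellMap D eneg epos ≫ lmul w :=
    (comp_lmul w _).symm
  haveI hcl : IsClosedImmersion (ψ ▷ (D.T ⊗ RedSub.pow (Red.Ga S) m)).left :=
    Groth.Agent.Lib.GrpSch.whiskerRight_left_of (P := @IsClosedImmersion) ψ _ inferInstance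
  haveI ho : IsOpenImmersion (RedSub.cellMap D eneg epos ≫ lmul w).left := by
    rw [Over.comp_left]; infer_instance
  refine ⟨by rw [hfac, Over.comp_left]; infer_instance, closure (Set.range (RedSub.bruhatMap D nr L e epos).left.base),
    isClosed_closure, ?_⟩
  rw [ht, hfac]
  set c := (ψ ▷ (D.T ⊗ RedSub.pow (Red.Ga S) m)).left
  set t := (RedSub.cellMap D eneg epos ≫ lmul w).left
  rw [Over.comp_left]
  change Set.range (c ≫ t).base = Set.range t.base ∩ closure (Set.range (c ≫ t).base)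
  rw [Scheme.Hom.comp_base, TopCat.coe_comp, Set.range_comp]
  refine Set.Subset.antisymm (fun x hx => ⟨Set.image_subset_range _ _ hx, subset_closure hx⟩) ?_
  rintro _ ⟨⟨y, rfl⟩, hy⟩
  refine ⟨y, ?_, rfl⟩
  have h1 := t.isOpenEmbedding.isInducing.closure_eq_preimage_closure_image (Set.range c.base)
  rw [c.isClosedEmbedding.isClosed_range.closure_eq] at h1
  rw [h1]
  exact hy

end Groth.Agent.H82.Bruhat
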