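import Groth.Agent.H82.Bruhat.Cover
import Groth.Agent.H82.R2.CorootChar.Lattice

/-!
# The Bruhat order and the double cosets of a Borel subgroup
-/

set_option autoImplicit false
set_option linter.style.haveILetI false
set_option linter.unusedSectionVars false
universe u

open CategoryTheory MonoidalCategory CartesianMonoidalCategory MonObj GrpObj AlgebraicGeometry
open Groth.Agent.Lib.RedPts Groth.Agent.H82.BigCell Groth.Agent.H82.Contract Groth.Agent.H82.Weyl
open Groth.Agent.H82.RankOne (P P_eq P_zero P_comp P_add P_neg)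
open Groth.Agent.H82.Borel (IsACPt root_neg_idx exists_enum)

namespace Groth.Agent.H82.Bruhat

variable {S : Scheme.{u}} {G : Over S} [GrpObj G] {D : Red.SplitRed G}

theorem root_symm (L : List D.idx) (c : D.idx) :
    D.P.root ((RedSub.wordPerm D.P L).symm c) = wmap D L.reverse (D.P.root c) := by
  conv_rhs => rw [← (RedSub.wordPerm D.P L).apply_symm_apply c, ← wmap_root]
  have h := DFunLike.congr_fun (wmap_reverse_comp (D := D) L.reverse) (D.P.root ((RedSub.wordPerm D.P L).symm c))
  rw [List.reverse_reverse] at h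
  exact h.symm

theorem wordPerm_cons_eq (a : D.idx) (L : List D.idx) :
    RedSub.wordPerm D.P (a :: L) = D.P.reflectionPerm a * RedSub.wordPerm D.P L := by
  simp [RedSub.wordPerm]

theorem symm_cons (a : D.idx) (L : List D.idx) (c : D.idx) :
    (RedSub.wordPerm D.P (a :: L)).symm c = (RedSub.wordPerm D.P L).symm (D.P.reflectionPerm a c) := by
  rw [Equiv.symm_apply_eq, wordPerm_cons, Equiv.apply_symm_apply, D.P.reflectionPerm_self]

theorem root_refl (a c : D.idx) :
    D.P.root (D.P.reflectionPerm a c) = D.P.root c - D.P.coroot a (D.P.root c) • D.P.root a := by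
  have h := D.P.reflectionPerm_root a c
  rw [D.pairing_eq] at h
  exact h.symm

variable (l : D.M →+ ℤ)

/-- The positive roots made negative by the inverse of a permutation. -/
noncomputable def Jset (w : Equiv.Perm D.idx) : Finset D.idx :=
  Finset.univ.filter fun a => 0 < l (D.P.root a) ∧ l (D.P.root (w.symm a)) < 0

/-- The length. -/
noncomputable def len (w : Equiv.Perm D.idx) : ℕ := (Jset l w).card

variable {l}

theorem mem_Jset {w : Equiv.Perm D.idx} {a : D.idx} :
    a ∈ Jset l w ↔ 0 < l (D.P.root a) ∧ l (D.P.root (w.symm a)) < 0 := by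
  simp [Jset]

/-- A covering step. -/
def Step (l : D.M →+ ℤ) (x y : Equiv.Perm D.idx) : Prop :=
  ∃ c, 0 < l (D.P.root c) ∧ y = D.P.reflectionPerm c * x ∧ len l y = len l x + 1

/-- A reflection in a root made negative shortens. -/
theorem len_lt {L : List D.idx} {c : D.idx} (hc : 0 < l (D.P.root c))
    (h : l (D.P.root ((RedSub.wordPerm D.P L).symm c)) < 0) :
    len l (RedSub.wordPerm D.P (c :: L)) < len l (RedSub.wordPerm D.P L) := by
  classical
  let φ : D.idx → D.idx := fun a => if 0 < l (D.P.root (D.P.reflectionPerm c a)) then D.P.reflectionPerm c a else a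
  have hcJ : c ∈ Jset l (RedSub.wordPerm D.P L) := mem_Jset.2 ⟨hc, h⟩
  refine lt_of_le_of_lt (Finset.card_le_card_of_injOn φ (t := (Jset l (RedSub.wordPerm D.P L)).erase c) ?_ ?_)
    (Finset.card_erase_lt_of_mem hcJ)
  · intro a ha
    obtain ⟨h1, h2⟩ := mem_Jset.1 ha
    rw [symm_cons] at h2
    refine Finset.mem_erase.2 ?_
    simp only [φ]
    split_ifs with hσ
    · refine ⟨fun e => ?_, mem_Jset.2 ⟨hσ, h2⟩⟩
      have : a = D.P.reflectionPerm c c := by rw [← D.P.reflectionPerm_self c a, e]
      rw [this, root_neg_idx, map_neg] at h1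
      omega
    · have hne : a ≠ c := fun e => by
        rw [e, root_symm, root_neg_idx, map_neg, map_neg, ← root_symm] at h2
        omega
      refine ⟨hne, mem_Jset.2 ⟨h1, ?_⟩⟩
      have hr : D.P.root a = D.P.root (D.P.reflectionPerm c a) + D.P.coroot c (D.P.root a) • D.P.root c := by
        rw [root_refl]; abel
      have hp : 0 < D.P.coroot c (D.P.root a) := by
        have e1 := congrArg l (root_refl c a)
        rw [map_sub, map_zsmul, smul_eq_mul] at e1
        by_contra hle
        have := mul_nonpos_of_nonpos_of_nonneg (le_of_not_gt hle) hc.le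
        omega
      rw [root_symm, hr, map_add, map_zsmul, map_add, map_zsmul, smul_eq_mul, ← root_symm, ← root_symm]
      have := mul_neg_of_pos_of_neg hp h
      omega
  · intro a ha a' ha' e
    have ha1 := (mem_Jset.1 (Finset.mem_coe.1 ha)).1
    have ha1' := (mem_Jset.1 (Finset.mem_coe.1 ha')).1
    simp only [φ] at e
    split_ifs at e with h1 h2 h2
    · exact (D.P.reflectionPerm c).injective e
    · exact absurd (by rw [← e, D.P.reflectionPerm_self]; exact ha1) h2
    · exact absurd (by rw [e, D.P.reflectionPerm_self]; exact ha1') h1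
    · exact e

/-- A covering step is made by a root kept positive. -/
theorem step_pos (hne : ∀ a, l (D.P.root a) ≠ 0) {L : List D.idx} {c : D.idx} (hc : 0 < l (D.P.root c))
    (h : len l (RedSub.wordPerm D.P (c :: L)) = len l (RedSub.wordPerm D.P L) + 1) :
    0 < l (D.P.root ((RedSub.wordPerm D.P L).symm c)) := by
  by_contra h'
  have := len_lt hc (L := L) (by have := hne ((RedSub.wordPerm D.P L).symm c); omega)
  omega

theorem ncard_eq (hne : ∀ a, l (D.P.root a) ≠ 0) (L : List D.idx) :
    Set.ncard {a : D.idx | 0 < l (D.P.root a) ∧ l (D.P.root (RedSub.wordPerm D.P L a)) < 0} =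
      len l (RedSub.wordPerm D.P L) := by
  classical
  let w := RedSub.wordPerm D.P L
  let f : D.idx → D.idx := fun a => D.P.reflectionPerm (w a) (w a)
  have hf : Function.Injective f := fun a a' e => by
    refine w.injective (D.P.root.injective (neg_injective ?_))
    have := congrArg D.P.root e
    simpa only [f, root_neg_idx] using this
  have e : f '' {a : D.idx | 0 < l (D.P.root a) ∧ l (D.P.root (w a)) < 0} = ↑(Jset l w) := by
    ext c
    constructor
    · rintro ⟨a, ⟨h1, h2⟩, rfl⟩
      refine Finset.mem_coe.2 (mem_Jset.2 ⟨?_, ?_⟩)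
      · simp only [f, root_neg_idx, map_neg]; omega
      · simp only [f, w, wordPerm_symm_neg, map_neg, Equiv.symm_apply_apply]; omega
    · intro hc
      obtain ⟨h1, h2⟩ := mem_Jset.1 (Finset.mem_coe.1 hc)
      refine ⟨w.symm (D.P.reflectionPerm c c), ⟨?_, ?_⟩, ?_⟩
      · simp only [w, wordPerm_symm_neg, map_neg] at h2 ⊢; omega
      · simp only [Equiv.apply_symm_apply, root_neg_idx, map_neg]; omega
      · simp only [f, Equiv.apply_symm_apply]
        exact D.P.root.injective (by rw [root_neg_idx, root_neg_idx, neg_neg])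
  change Set.ncard {a : D.idx | 0 < l (D.P.root a) ∧ l (D.P.root (w a)) < 0} = _
  rw [← Set.ncard_image_of_injective _ hf, e, Set.ncard_coe_finset]
  rfl

variable {b : D.P.Base} (hA : Adapted b l)

include hA

theorem len_cons_lt [D.P.IsReduced] [D.P.IsCrystallographic] {L : List D.idx} {a : D.idx} (ha : a ∈ b.support)
    (h : l (D.P.root ((RedSub.wordPerm D.P L).symm a)) < 0) :
    len l (RedSub.wordPerm D.P L) = len l (RedSub.wordPerm D.P (a :: L)) + 1 := by
  classical
  let σ := D.P.reflectionPerm a
  have hla := simple_pos hA ha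
  have hmem : a ∈ Jset l (RedSub.wordPerm D.P L) := mem_Jset.2 ⟨hla, h⟩
  rw [len, len, ← Finset.card_erase_add_one hmem]
  refine congrArg (· + 1) (Finset.card_bij (fun c _ => σ c) (fun c hc => ?_) (fun c _ c' _ e => σ.injective e)
    fun c hc => ⟨σ c, ?_, D.P.reflectionPerm_self _ _⟩)
  · obtain ⟨hne, hc⟩ := Finset.mem_erase.1 hc
    obtain ⟨h1, h2⟩ := mem_Jset.1 hc
    exact mem_Jset.2 ⟨refl_pos hA ha h1 hne, by rwa [symm_cons, D.P.reflectionPerm_self]⟩
  · obtain ⟨h1, h2⟩ := mem_Jset.1 hc
    rw [symm_cons] at h2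
    have hne : c ≠ a := fun e => by
      rw [e, root_symm, root_neg_idx, map_neg, map_neg, ← root_symm] at h2
      omega
    refine Finset.mem_erase.2 ⟨fun e => ?_, mem_Jset.2 ⟨refl_pos hA ha h1 hne, h2⟩⟩
    have : c = D.P.reflectionPerm a a := by rw [← D.P.reflectionPerm_self a c]; exact congrArg σ e
    rw [this, root_neg_idx, map_neg] at h1
    omega

theorem len_cons_gt [D.P.IsReduced] [D.P.IsCrystallographic] {L : List D.idx} {a : D.idx} (ha : a ∈ b.support)
    (h : 0 < l (D.P.root ((RedSub.wordPerm D.P L).symm a))) :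
    len l (RedSub.wordPerm D.P (a :: L)) = len l (RedSub.wordPerm D.P L) + 1 := by
  have e : RedSub.wordPerm D.P (a :: a :: L) = RedSub.wordPerm D.P L := Equiv.ext fun c => by
    rw [wordPerm_cons, wordPerm_cons, D.P.reflectionPerm_self]
  rw [len_cons_lt hA ha (L := a :: L) (by rw [symm_cons, root_symm, root_neg_idx, map_neg, map_neg, ← root_symm]; omega), e]

/-- Simple reflections lift covering steps. -/
theorem lift_step [D.P.IsReduced] [D.P.IsCrystallographic] {a : D.idx} (ha : a ∈ b.support) {L : List D.idx}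
    {y : Equiv.Perm D.idx} (h : Step l (RedSub.wordPerm D.P L) y) :
    Relation.ReflTransGen (Step l) (RedSub.wordPerm D.P (a :: L)) y ∨
      Relation.ReflTransGen (Step l) (RedSub.wordPerm D.P (a :: L)) (D.P.reflectionPerm a * y) := by
  obtain ⟨c, hc, rfl, hlen⟩ := h
  rw [← wordPerm_cons_eq] at hlen ⊢
  have hpos := step_pos hA.ne hc hlen
  by_cases hca : c = a
  · left; rw [hca]
  set d := D.P.reflectionPerm a c
  have hd : 0 < l (D.P.root d) := refl_pos hA ha hc hca
  have hdL : (RedSub.wordPerm D.P (a :: L)).symm d = (RedSub.wordPerm D.P L).symm c := by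
    rw [symm_cons, D.P.reflectionPerm_self]
  have hperm : RedSub.wordPerm D.P (d :: a :: L) = RedSub.wordPerm D.P (a :: c :: L) := by
    refine Equiv.ext fun x => D.P.root.injective ?_
    rw [wordPerm_cons, wordPerm_cons, wordPerm_cons, wordPerm_cons]
    simp only [d, D.P.root_reflectionPerm, D.P.reflection_reflectionPerm, LinearEquiv.mul_apply,
      D.P.reflection_same]
  rw [← wordPerm_cons_eq] at *
  rcases lt_or_gt_of_ne (hA.ne ((RedSub.wordPerm D.P L).symm a)) with hs | hs
  · left
    refine Relation.ReflTransGen.head ?_ (Relation.ReflTransGen.single ⟨c, hc, wordPerm_cons_eq c L, hlen⟩)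
    have h1 := len_cons_lt hA ha hs
    refine ⟨a, simple_pos hA ha, Equiv.ext fun x => ?_, h1⟩
    rw [Equiv.Perm.mul_apply, wordPerm_cons, D.P.reflectionPerm_self]
  · have h1 := len_cons_gt hA ha hs
    rcases lt_or_gt_of_ne (hA.ne ((RedSub.wordPerm D.P (c :: L)).symm a)) with hy | hy
    · exfalso
      have h2 := len_cons_lt hA ha hy
      have h3 := len_lt hd (L := a :: L)
      by_cases hneg : l (D.P.root ((RedSub.wordPerm D.P (a :: L)).symm d)) < 0
      · rw [hdL] at hneg; omega
      · have h4 := len_lt hd (L := d :: a :: L) (by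
          rw [symm_cons, root_symm, root_neg_idx, map_neg, map_neg, ← root_symm, hdL]; omega)
        rw [hperm] at h4
        have e : RedSub.wordPerm D.P (d :: d :: a :: L) = RedSub.wordPerm D.P (a :: L) := Equiv.ext fun x => by
          rw [wordPerm_cons, wordPerm_cons, D.P.reflectionPerm_self]
        rw [e] at h4
        omega
    · right
      refine Relation.ReflTransGen.single ⟨d, hd, ?_, ?_⟩
      · rw [← wordPerm_cons_eq, hperm]
      · rw [len_cons_gt hA ha hy, h1]; omega

end Groth.Agent.H82.Bruhat
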