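import Groth.Agent.H82.Bruhat.Deodhar
import Groth.Agent.H82.Bruhat.Immersion
import Groth.Agent.H82.RankOne2.Fibre
import Groth.Agent.H82.R2.TranslateCover
import Mathlib.AlgebraicGeometry.AlgClosed.Basic

/-!
# Closures of double cosets of a Borel subgroup
-/

set_option autoImplicit false
set_option linter.style.haveILetI false
set_option linter.unusedSectionVars false
set_option maxHeartbeats 1600000
universe u

open CategoryTheory MonoidalCategory CartesianMonoidalCategory MonObj GrpObj AlgebraicGeometry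
open Groth.Agent.Lib.RedPts Groth.Agent.H82.BigCell Groth.Agent.H82.Contract Groth.Agent.H82.Weyl
open Groth.Agent.H82.RankOne (P P_eq P_zero P_comp P_add P_neg)
open Groth.Agent.H82.Borel (IsACPt root_neg_idx exists_enum isACPt_mk)

namespace Groth.Agent.H82.Bruhat

section Points

variable {k : Type u} [Field k] [IsAlgClosed k]

local notation "B₀" => Spec (CommRingCat.of k)

theorem isACPt_unit : IsACPt (𝟙_ (Over B₀)) := isACPt_mk k (𝟙 B₀)

/-- The image of a rational point. -/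
noncomputable def pt {X : Over B₀} (z : 𝟙_ (Over B₀) ⟶ X) : X.left := z.left (IsLocalRing.closedPoint k)

theorem pt_comp {X X' : Over B₀} (z : 𝟙_ (Over B₀) ⟶ X) (f : X ⟶ X') : pt (z ≫ f) = f.left (pt z) := by
  rw [pt, pt, Over.comp_left, Scheme.Hom.comp_apply]

theorem exists_pt {X : Over B₀} [LocallyOfFiniteType X.hom] {p : X.left} (hp : IsClosed {p}) :
    ∃ z : 𝟙_ (Over B₀) ⟶ X, pt z = p :=
  ⟨Over.homMk _ ((pointEquivClosedPoint X.hom).symm ⟨p, hp⟩).2, pointOfClosedPoint_apply _ _ hp _⟩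

theorem pt_closed {X : Over B₀} [LocallyOfFiniteType X.hom] (z : 𝟙_ (Over B₀) ⟶ X) : IsClosed {pt z} :=
  (pointEquivClosedPoint X.hom ⟨z.left, Over.w z⟩).2

theorem pt_injective {X : Over B₀} [LocallyOfFiniteType X.hom] :
    Function.Injective (pt : (𝟙_ (Over B₀) ⟶ X) → X.left) := fun z z' h =>
  Over.OverMorphism.ext (congrArg Subtype.val ((pointEquivClosedPoint X.hom).injective
    (a₁ := ⟨z.left, Over.w z⟩) (a₂ := ⟨z'.left, Over.w z'⟩) (Subtype.ext h)))

theorem exists_pt_mem {X : Over B₀} [LocallyOfFiniteType X.hom] {U : Set X.left} (hU : IsOpen U) (hne : U.Nonempty) :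
    ∃ z : 𝟙_ (Over B₀) ⟶ X, pt z ∈ U := by
  haveI := LocallyOfFiniteType.jacobsonSpace X.hom
  obtain ⟨p, hp, hp'⟩ := nonempty_inter_closedPoints hne hU.isLocallyClosed
  obtain ⟨z, rfl⟩ := exists_pt hp'
  exact ⟨z, hp⟩

theorem range_subset_of_pts {X G : Over B₀} [LocallyOfFiniteType X.hom] (f : X ⟶ G) {C : Set G.left} (hC : IsClosed C)
    (h : ∀ z : 𝟙_ (Over B₀) ⟶ X, pt (z ≫ f) ∈ C) : Set.range f.left.base ⊆ C := by
  rintro _ ⟨p, rfl⟩
  by_contra hp
  obtain ⟨z, hz⟩ := exists_pt_mem (hC.isOpen_compl.preimage f.left.continuous) ⟨p, hp⟩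
  exact hz (by have := h z; rwa [pt_comp] at this)

end Points

variable {k : Type u} [Field k] [IsAlgClosed k]

local notation "B₀" => Spec (CommRingCat.of k)

variable {G : Over (Spec (CommRingCat.of k))} [GrpObj G] {D : Red.SplitRed G}
variable {b : D.P.Base} {l : D.M →+ ℤ} (hA : Adapted b l)
variable {nr : D.idx → (𝟙_ (Over (Spec (CommRingCat.of k))) ⟶ G)} (hnr : RedSub.RealisesReflections D nr)
variable {m : ℕ} {epos : Fin m → D.idx} (hpos : RedSub.Enumerates (RedSub.posRoots D.P b) epos)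

/-- The double coset map. -/
noncomputable abbrev cosetMap (D : Red.SplitRed G) (nr : D.idx → (𝟙_ (Over B₀) ⟶ G)) {m : ℕ} (epos : Fin m → D.idx)
    (L : List D.idx) : (D.T ⊗ RedSub.pow (Red.Ga B₀) m) ⊗ (D.T ⊗ RedSub.pow (Red.Ga B₀) m) ⟶ G :=
  (fst _ _ ≫ RedSub.borelMap D epos) * (toUnit _ ≫ (L.map nr).prod) * (snd _ _ ≫ RedSub.borelMap D epos)

theorem lft_dom : LocallyOfFiniteType ((D.T ⊗ RedSub.pow (Red.Ga B₀) m) ⊗ (D.T ⊗ RedSub.pow (Red.Ga B₀) m)).hom := by
  haveI := Groth.Agent.Lib.Tori.Basic.smooth_of_isTorus D.maximalTorus.2.2.1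
  haveI : SmoothOfRelativeDimension m (RedSub.pow (Red.Ga B₀) m).hom := smoothOfRelativeDimension_pow (S := B₀) m
  haveI : Smooth (RedSub.pow (Red.Ga B₀) m).hom := SmoothOfRelativeDimension.smooth m _
  haveI : LocallyOfFiniteType (D.T ⊗ RedSub.pow (Red.Ga B₀) m).hom :=
    inferInstanceAs (LocallyOfFiniteType (Limits.pullback.fst _ _ ≫ D.T.hom))
  exact inferInstanceAs (LocallyOfFiniteType (Limits.pullback.fst _ _ ≫ _))

theorem comp_cosetMap (L : List D.idx) {X : Over B₀}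
    (z : X ⟶ (D.T ⊗ RedSub.pow (Red.Ga B₀) m) ⊗ (D.T ⊗ RedSub.pow (Red.Ga B₀) m)) :
    z ≫ cosetMap D nr epos L = ((z ≫ fst _ _) ≫ RedSub.borelMap D epos) * rp nr L X *
      ((z ≫ snd _ _) ≫ RedSub.borelMap D epos) := by
  simp only [cosetMap, MonObj.comp_mul, rp, ← Category.assoc]
  rw [toUnit_unique (z ≫ toUnit _) (toUnit X)]

include hA hpos

theorem borel_mem {X : Over B₀} (w : X ⟶ D.T ⊗ RedSub.pow (Red.Ga B₀) m) :
    w ≫ RedSub.borelMap D epos ∈ bor (D := D) l X := by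
  rw [Borel.comp_borelMap]
  refine mul_mem (torus_mem_bor l _) ?_
  rw [comp_prodMap]
  refine prodPts_mem_subgroup fun j => ?_
  rw [← Category.assoc, P_eq]
  exact unip_le_bor l X (root_mem_unip ((hA.pos _).1 (Set.ext_iff.1 hpos.2 _ |>.1 (Set.mem_range_self j))) _)

theorem inBB_comp (L : List D.idx) {X : Over B₀}
    (z : X ⟶ (D.T ⊗ RedSub.pow (Red.Ga B₀) m) ⊗ (D.T ⊗ RedSub.pow (Red.Ga B₀) m)) :
    InBB nr l L (z ≫ cosetMap D nr epos L) :=
  ⟨_, _, borel_mem hA hpos _, borel_mem hA hpos _, comp_cosetMap L z⟩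

theorem exists_of_inBB (L : List D.idx) {X : Over B₀} {g : X ⟶ G} (h : InBB nr l L g) :
    ∃ z, z ≫ cosetMap D nr epos L = g := by
  obtain ⟨v, v', hv, hv', rfl⟩ := h
  obtain ⟨t, w, rfl⟩ := exists_bor_form hA epos hpos hv
  obtain ⟨t', w', rfl⟩ := exists_bor_form hA epos hpos hv'
  refine ⟨lift (lift t w) (lift t' w'), ?_⟩
  rw [comp_cosetMap, lift_fst, lift_snd, Borel.comp_borelMap, Borel.comp_borelMap, lift_fst, lift_snd, lift_fst,
    lift_snd]

theorem mem_range (L : List D.idx) {g : 𝟙_ (Over B₀) ⟶ G} (h : InBB nr l L g) :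
    pt g ∈ Set.range (cosetMap D nr epos L).left.base := by
  obtain ⟨z, rfl⟩ := exists_of_inBB hA hpos L h
  rw [pt_comp]
  exact ⟨_, rfl⟩

include hnr

theorem inBB_congr {L L' : List D.idx} (h : RedSub.wordPerm D.P L = RedSub.wordPerm D.P L') {X : Over B₀}
    {g : X ⟶ G} (hg : InBB nr l L g) : InBB nr l L' g := by
  obtain ⟨v, v', hv, hv', rfl⟩ := hg
  obtain ⟨t, ht⟩ := exists_torus_eq hnr h X
  exact ⟨v, (t ≫ D.i) * v', hv, mul_mem (torus_mem_bor l t) hv', by rw [ht]; group⟩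

theorem range_congr {L L' : List D.idx} (h : RedSub.wordPerm D.P L = RedSub.wordPerm D.P L') :
    Set.range (cosetMap D nr epos L).left.base ⊆ closure (Set.range (cosetMap D nr epos L').left.base) := by
  haveI := lft_dom (D := D) (m := m)
  exact range_subset_of_pts _ isClosed_closure fun z =>
    subset_closure (mem_range hA hpos L' (inBB_congr hA hnr hpos h (inBB_comp hA hpos L z)))

set_option maxHeartbeats 800000 in
/-- A covering step enlarges the closure. -/
theorem range_step [D.P.IsReduced] {L : List D.idx} {c : D.idx} (hc : 0 < l (D.P.root c))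
    (hlc : 0 < l (D.P.root ((RedSub.wordPerm D.P L).symm c))) :
    Set.range (cosetMap D nr epos L).left.base ⊆ closure (Set.range (cosetMap D nr epos (c :: L)).left.base) := by
  classical
  haveI := lft_dom (D := D) (m := m)
  haveI := smooth_Ga B₀
  haveI : IrreducibleSpace (Red.Ga B₀).left := by
    haveI : IsIso (gaIso B₀).inv.left := ((Over.forget _).mapIso (gaIso _)).isIso_inv
    have h : Surjective (gaIso B₀).inv.left := inferInstance
    haveI : IrreducibleSpace ↥(Over.mk (𝔸(PUnit.{u + 1}; B₀) ↘ B₀)).left :=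
      (inferInstance : IrreducibleSpace ↥(𝔸(PUnit.{u + 1}; B₀)))
    refine (irreducibleSpace_def _).2 ?_
    rw [Set.top_eq_univ, ← h.surj.range_eq, ← Set.image_univ]
    exact (IrreducibleSpace.isIrreducible_univ _).image _ (Scheme.Hom.continuous _).continuousOn
  refine range_subset_of_pts _ isClosed_closure fun z => ?_
  obtain ⟨v, v', hv, hv', hzv⟩ := inBB_comp hA hpos (nr := nr) L z
  rw [hzv]
  set c' := D.P.reflectionPerm c c with hc'
  let ψ : Red.Ga B₀ ⟶ G := (toUnit _ ≫ v) * D.u c' * (toUnit _ ≫ (rp nr L _ * v'))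
  have hψ : ∀ y : 𝟙_ (Over B₀) ⟶ Red.Ga B₀, y ≫ ψ = v * P (D.u c') (Red.gaFn y) * (rp nr L _ * v') := fun y => by
    simp only [ψ, MonObj.comp_mul, ← Category.assoc, toUnit_unique (y ≫ toUnit _) (𝟙 _), Category.id_comp]
    rw [P_eq]
  have h0 : Ga.gaPt (0 : Γ((𝟙_ (Over B₀)).left, ⊤)) ≫ ψ = v * rp nr L _ * v' := by
    rw [hψ, Ga.gaFn_gaPt, P_zero]; group
  rw [← h0, mem_closure_iff]
  intro O hO hzO
  rw [pt_comp] at hzO
  set o := pt (Ga.gaPt (0 : Γ((𝟙_ (Over B₀)).left, ⊤)))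
  have ho : IsClosed {o} := pt_closed _
  have hne : (ψ.left ⁻¹' O ∩ {o}ᶜ).Nonempty := by
    refine nonempty_preirreducible_inter (hO.preimage ψ.left.continuous) ho.isOpen_compl ⟨o, hzO⟩ ⟨pt (Ga.gaPt 1), fun h => ?_⟩
    haveI := (isACPt_unit (k := k)).isField.nontrivial
    have := congrArg Red.gaFn (pt_injective (Set.mem_singleton_iff.1 h))
    rw [Ga.gaFn_gaPt, Ga.gaFn_gaPt] at this
    exact one_ne_zero this
  obtain ⟨y, hy, hy'⟩ := exists_pt_mem ((hO.preimage ψ.left.continuous).inter ho.isOpen_compl) hne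
  refine ⟨pt (y ≫ ψ), by rw [pt_comp]; exact hy, mem_range hA hpos _ ?_⟩
  rw [hψ]
  set x := Red.gaFn y
  have hx : x ≠ 0 := fun h => hy' (by
    rw [Set.mem_singleton_iff, show y = Ga.gaPt 0 from Ga.gaFn_injective (by rw [Ga.gaFn_gaPt]; exact h)])
  obtain ⟨p, q, t, hpq⟩ := exists_smallCell hA.ne hc _ (fun X => rep_rp hnr [c] X) (isACPt_unit (k := k)) hx
  set n := rp nr [c] (𝟙_ (Over B₀)) with hn
  change n * P (D.u c') x = P (D.u c') p * (t ≫ D.i) * P (D.u c) q at hpq
  have hb1 : n⁻¹ * P (D.u c') p * n ∈ bor (D := D) l _ :=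
    inv_conj_mem_of_roots hnr [c] _ (· = c') (fun d hd y => by
      refine unip_le_bor l _ (root_mem_unip ?_ y)
      rw [hd, show (RedSub.wordPerm D.P [c]).symm c' = c by
        rw [Equiv.symm_apply_eq, wordPerm_singleton, hc']]
      exact hc) (Subgroup.subset_closure ⟨c', p, rfl, rfl⟩)
  obtain ⟨s, hs⟩ := exists_torus_square hnr c (𝟙_ (Over B₀))
  have hb2 : (rp nr L _)⁻¹ * P (D.u c) q * rp nr L _ ∈ bor (D := D) l _ :=
    inv_conj_mem_of_roots hnr L _ (· = c) (fun d hd y => by rw [hd]; exact unip_le_bor l _ (root_mem_unip hlc y))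
      (Subgroup.subset_closure ⟨c, q, rfl, rfl⟩)
  refine ⟨v * (n⁻¹ * P (D.u c') p * n) * (s⁻¹ ≫ D.i),
    (act D (wmap D L) t ≫ D.i) * ((rp nr L _)⁻¹ * P (D.u c) q * rp nr L _) * v',
    mul_mem (mul_mem hv hb1) (torus_mem_bor l _), mul_mem (mul_mem (torus_mem_bor l _) hb2) hv', ?_⟩
  rw [rp_cons c L, ← hn, GrpObj.inv_comp s D.i, hs, ← hn]
  have e : P (D.u c') x = n⁻¹ * (P (D.u c') p * (t ≫ D.i) * P (D.u c) q) := by rw [← hpq]; group
  calc v * P (D.u c') x * (rp nr L _ * v')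
      = v * (n⁻¹ * P (D.u c') p * n) * n⁻¹ * ((t ≫ D.i) * rp nr L _) * ((rp nr L _)⁻¹ * P (D.u c) q * rp nr L _) * v' := by
        rw [e]; group
    _ = _ := by rw [torus_rp hnr]; group

/-- The closure order of the double cosets is the Bruhat order. -/
theorem subset_closure_iff {n : ℕ} {eneg : Fin n → D.idx} (hneg : RedSub.Enumerates (RedSub.negRoots D.P b) eneg)
    [D.P.IsReduced] [D.P.IsCrystallographic] (L L' : List D.idx) :
    Set.range (cosetMap D nr epos L').left.base ⊆ closure (Set.range (cosetMap D nr epos L).left.base) ↔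
      Relation.ReflTransGen (Step l) (RedSub.wordPerm D.P L') (RedSub.wordPerm D.P L) := by
  haveI := lft_dom (D := D) (m := m)
  constructor
  · intro h
    haveI := isOpenImmersion_of_base b eneg epos hneg hpos
    let Tr : RedSub.pow (Red.Ga B₀) n ⊗ (D.T ⊗ RedSub.pow (Red.Ga B₀) m) ⟶ G :=
      (toUnit _ ≫ (L'.map nr).prod) * RedSub.cellMap D eneg epos
    haveI : IsOpenImmersion Tr.left := by
      rw [show Tr = RedSub.cellMap D eneg epos ≫ lmul (L'.map nr).prod from (comp_lmul _ _).symm, Over.comp_left]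
      infer_instance
    let g₀ : 𝟙_ (Over B₀) ⟶ G := rp nr L' _
    have h1 : pt g₀ ∈ Set.range Tr.left.base := R2.mem_range_translate hA hneg hpos _ (by
      change R2.Big D l ((rp nr L' _)⁻¹ * g₀)
      exact ⟨1, 1, 1, one_mem _, one_mem _, by simp [g₀, MonObj.one_comp]⟩) _
    have h2 : pt g₀ ∈ closure (Set.range (cosetMap D nr epos L).left.base) :=
      h (mem_range hA hpos L' ⟨1, 1, one_mem _, one_mem _, by simp [g₀]⟩)
    obtain ⟨_, ho1, p, rfl⟩ := mem_closure_iff.1 h2 _ Tr.left.isOpenEmbedding.isOpen_range h1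
    obtain ⟨z, hz⟩ := exists_pt_mem (X := (D.T ⊗ RedSub.pow (Red.Ga B₀) m) ⊗ (D.T ⊗ RedSub.pow (Red.Ga B₀) m))
      (Tr.left.isOpenEmbedding.isOpen_range.preimage (cosetMap D nr epos L).left.continuous) ⟨p, ho1⟩
    obtain ⟨w, hw⟩ := exists_factor Tr (z ≫ cosetMap D nr epos L) (by
      rintro _ ⟨y, rfl⟩
      haveI : Subsingleton (𝟙_ (Over B₀)).left := (isACPt_unit (k := k)).single
      rw [Subsingleton.elim y (IsLocalRing.closedPoint k), Over.comp_left, Scheme.Hom.comp_apply]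
      exact hz)
    obtain ⟨u, t, v, hu, hv, huv⟩ := R2.big_comp_cellMap hA hneg hpos w
    refine le_of_meet hA hnr (isACPt_unit (k := k)) L L' (inBB_comp hA hpos L z) hu
      (mul_mem (torus_mem_bor l t) (unip_le_bor l _ hv)) ?_
    rw [← hw]
    simp only [Tr, MonObj.comp_mul, huv, rp]
    rw [← Category.assoc, toUnit_unique (w ≫ toUnit _) (toUnit _)]
    group
  · intro h
    suffices H : ∀ y, Relation.ReflTransGen (Step l) (RedSub.wordPerm D.P L') y → ∃ M, RedSub.wordPerm D.P M = y ∧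
        Set.range (cosetMap D nr epos L').left.base ⊆ closure (Set.range (cosetMap D nr epos M).left.base) by
      obtain ⟨M, hM, hsub⟩ := H _ h
      exact hsub.trans (closure_minimal (range_congr hA hnr hpos hM) isClosed_closure)
    intro y hy
    induction hy with
    | refl => exact ⟨L', rfl, subset_closure⟩
    | tail _ hst ih =>
      obtain ⟨M, rfl, hsub⟩ := ih
      obtain ⟨c, hc, rfl, hlen⟩ := hst
      rw [← wordPerm_cons_eq] at hlen
      exact ⟨c :: M, wordPerm_cons_eq c M, hsub.trans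
        (closure_minimal (range_step hA hnr hpos hc (step_pos hA.ne hc hlen)) isClosed_closure)⟩

/-- Covering steps in terms of inversion sets. -/
theorem chain_iff (L L' : List D.idx) :
    Relation.ReflTransGen (fun u v : Equiv.Perm D.idx => ∃ c : D.idx, c ∈ RedSub.posRoots D.P b ∧
        v = D.P.reflectionPerm c * u ∧
        Set.ncard {a : D.idx | a ∈ RedSub.posRoots D.P b ∧ v a ∈ RedSub.negRoots D.P b} =
          Set.ncard {a : D.idx | a ∈ RedSub.posRoots D.P b ∧ u a ∈ RedSub.negRoots D.P b} + 1)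
      (RedSub.wordPerm D.P L') (RedSub.wordPerm D.P L) ↔
      Relation.ReflTransGen (Step l) (RedSub.wordPerm D.P L') (RedSub.wordPerm D.P L) := by
  have hset : ∀ w : Equiv.Perm D.idx, {a : D.idx | a ∈ RedSub.posRoots D.P b ∧ w a ∈ RedSub.negRoots D.P b} =
      {a : D.idx | 0 < l (D.P.root a) ∧ l (D.P.root (w a)) < 0} := fun w => Set.ext fun a =>
    and_congr (hA.pos a) (hA.neg (w a))
  simp only [hset]
  constructor <;> intro h
  · suffices H : (∃ M, RedSub.wordPerm D.P M = RedSub.wordPerm D.P L) ∧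
        Relation.ReflTransGen (Step l) (RedSub.wordPerm D.P L') (RedSub.wordPerm D.P L) from H.2
    generalize RedSub.wordPerm D.P L = y at h ⊢
    induction h with
    | refl => exact ⟨⟨L', rfl⟩, Relation.ReflTransGen.refl⟩
    | tail _ hst ih =>
      obtain ⟨⟨M, rfl⟩, hr⟩ := ih
      obtain ⟨c, hc, rfl, hcard⟩ := hst
      rw [← wordPerm_cons_eq, ncard_eq hA.ne, ncard_eq hA.ne] at hcard
      exact ⟨⟨c :: M, wordPerm_cons_eq c M⟩, hr.tail ⟨c, (hA.pos c).1 hc, rfl, by rw [← wordPerm_cons_eq]; exact hcard⟩⟩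
  · suffices H : (∃ M, RedSub.wordPerm D.P M = RedSub.wordPerm D.P L) ∧
        Relation.ReflTransGen (fun u v : Equiv.Perm D.idx => ∃ c : D.idx, c ∈ RedSub.posRoots D.P b ∧
          v = D.P.reflectionPerm c * u ∧
          Set.ncard {a : D.idx | 0 < l (D.P.root a) ∧ l (D.P.root (v a)) < 0} =
            Set.ncard {a : D.idx | 0 < l (D.P.root a) ∧ l (D.P.root (u a)) < 0} + 1)
          (RedSub.wordPerm D.P L') (RedSub.wordPerm D.P L) from H.2
    generalize RedSub.wordPerm D.P L = y at h ⊢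
    induction h with
    | refl => exact ⟨⟨L', rfl⟩, Relation.ReflTransGen.refl⟩
    | tail _ hst ih =>
      obtain ⟨⟨M, rfl⟩, hr⟩ := ih
      obtain ⟨c, hc, rfl, hlen⟩ := hst
      rw [← wordPerm_cons_eq] at hlen
      refine ⟨⟨c :: M, wordPerm_cons_eq c M⟩, hr.tail ⟨c, (hA.pos c).2 hc, rfl, ?_⟩⟩
      rw [← wordPerm_cons_eq, ncard_eq hA.ne, ncard_eq hA.ne]
      exact hlen

end Groth.Agent.H82.Bruhat
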