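import Groth.Agent.H82.Weyl.Global
import Groth.Agent.H82.Weyl.Unique
import Groth.Agent.H82.Weyl.Extend
import Groth.Agent.H82.Borel.Points
import Groth.Agent.H82.Borel.RootElement

/-!
# Representatives of Weyl group elements and the two unipotent groups on points
-/

set_option autoImplicit false
set_option linter.style.haveILetI false
set_option linter.unusedSectionVars false
universe u

open CategoryTheory MonoidalCategory CartesianMonoidalCategory MonObj GrpObj AlgebraicGeometry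
open Groth.Agent.Lib.RedPts Groth.Agent.H82.BigCell Groth.Agent.H82.Contract Groth.Agent.H82.Weyl
open Groth.Agent.H82.RankOne (P P_eq P_zero P_comp P_add P_neg)

namespace Groth.Agent.H82.Bruhat

variable {S : Scheme.{u}} {G : Over S} [GrpObj G] {D : Red.SplitRed G}

theorem gmFn_act_chr (φ : D.M →+ D.M) {X : Over S} (t : X ⟶ D.T) (m : D.M) :
    Red.gmFn (act D φ t ≫ chr D m) = Red.gmFn (t ≫ chr D (φ m)) := by
  simp only [chr, ← Category.assoc]
  rw [Gm.gmFn_chi, Gm.gmFn_chi, dsFn_act]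

theorem wmap_append (L M : List D.idx) : wmap D (L ++ M) = (wmap D L).comp (wmap D M) := by
  ext m; simp [wmap, word_append, LinearEquiv.mul_apply]

theorem wmap_root (L : List D.idx) (c : D.idx) :
    wmap D L (D.P.root c) = D.P.root (RedSub.wordPerm D.P L c) := word_root D.P L c

theorem wordPerm_cons (a : D.idx) (L : List D.idx) (c : D.idx) :
    RedSub.wordPerm D.P (a :: L) c = D.P.reflectionPerm a (RedSub.wordPerm D.P L c) := by
  simp [RedSub.wordPerm]

theorem wordPerm_singleton (a c : D.idx) : RedSub.wordPerm D.P [a] c = D.P.reflectionPerm a c := by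
  simp [RedSub.wordPerm]

/-- `g` represents the word `L`: conjugation by `g` moves the root group of `c` to that of `L c`. -/
def Rep (L : List D.idx) {X : Over S} (g : X ⟶ G) : Prop := ActsBy (wmap D L.reverse) g

theorem Rep.comp {L : List D.idx} {X X' : Over S} {g : X ⟶ G} (h : Rep L g) (x : X' ⟶ X) :
    Rep L (x ≫ g) := ActsBy.comp h x

theorem Rep.mul {L M : List D.idx} {X : Over S} {g h : X ⟶ G} (hg : Rep L g) (hh : Rep M h) :
    Rep (L ++ M) (g * h) := by
  have := ActsBy.mul hg hh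
  rwa [← wmap_append, ← List.reverse_append] at this

theorem Rep.inv {L : List D.idx} {X : Over S} {g : X ⟶ G} (hg : Rep L g) : Rep L.reverse g⁻¹ := by
  have := ActsBy.inv hg (wmap_reverse_comp L)
  rwa [Rep, List.reverse_reverse]

/-- The representative of a word in a realising family. -/
noncomputable def rp (nr : D.idx → (𝟙_ (Over S) ⟶ G)) (L : List D.idx) (X : Over S) : X ⟶ G :=
  toUnit X ≫ (L.map nr).prod

variable {nr : D.idx → (𝟙_ (Over S) ⟶ G)}

theorem rp_cons (a : D.idx) (L : List D.idx) (X : Over S) :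
    rp nr (a :: L) X = rp nr [a] X * rp nr L X := by
  simp [rp, MonObj.comp_mul]

theorem rp_comp (L : List D.idx) {X X' : Over S} (f : X' ⟶ X) : f ≫ rp nr L X = rp nr L X' := by
  rw [rp, rp, ← Category.assoc, toUnit_unique (f ≫ toUnit X) (toUnit X')]

theorem rep_rp (hnr : RedSub.RealisesReflections D nr) (L : List D.idx) (X : Over S) : Rep L (rp nr L X) := by
  induction L with
  | nil => rw [Rep, rp, List.map_nil, List.prod_nil, MonObj.comp_one, List.reverse_nil, wmap_nil]; exact actsBy_one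
  | cons a L ih =>
    rw [rp_cons]
    refine Rep.mul (L := [a]) ?_ ih
    intro Y f t
    rw [rp_comp, rp, List.map_singleton, List.prod_singleton, hnr a Y t, List.reverse_singleton, wmap_cons, wmap_nil,
      AddMonoidHom.comp_id]
    simp [act]

/-- Conjugation by a representative over the base moves root elements. -/
theorem exists_conj_root [D.P.IsReduced] (L : List D.idx) (g : 𝟙_ (Over S) ⟶ G)
    (hg : ∀ X : Over S, Rep L (toUnit X ≫ g)) (c : D.idx) {X : Over S} (x : Γ(X.left, ⊤)) :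
    ∃ x' : Γ(X.left, ⊤), (toUnit X ≫ g) * P (D.u c) x * (toUnit X ≫ g)⁻¹ =
      P (D.u (RedSub.wordPerm D.P L c)) x' := by
  let v : Red.Ga S ⟶ G := (toUnit _ ≫ g) * D.u c * (toUnit _ ≫ g)⁻¹
  have hv : ∀ {Y : Over S} (y : Y ⟶ Red.Ga S), y ≫ v = (toUnit Y ≫ g) * (y ≫ D.u c) * (toUnit Y ≫ g)⁻¹ := fun {Y} y => by
    simp only [v, MonObj.comp_mul, GrpObj.comp_inv]
    rw [← Category.assoc, toUnit_unique (y ≫ toUnit _) (toUnit Y)]
  haveI : IsMonHom v := isMonHom_of_points v fun Y a b => by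
    rw [hv, hv, hv, MonObj.mul_comp a b (D.u c)]; group
  have hroot : IsRootPts D.i (chr D (D.P.root (RedSub.wordPerm D.P L c))) v := by
    intro Y t a
    have h1 := (hg Y).inv Y (𝟙 Y) t
    rw [Category.id_comp, List.reverse_reverse, _root_.inv_inv] at h1
    rw [P, hv, P, hv]
    have h2 := isRootPts D c (act D (wmap D L) t) a
    rw [gmFn_act_chr, wmap_root, P, P] at h2
    set n := toUnit Y ≫ g
    set q := act D (wmap D L) t ≫ D.i
    calc (t ≫ D.i) * (n * (Ga.gaPt a ≫ D.u c) * n⁻¹)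
        = n * (q * (Ga.gaPt a ≫ D.u c)) * n⁻¹ := by rw [← h1]; group
      _ = _ := by rw [h2, ← h1]; group
  obtain ⟨σ, hσ⟩ := exists_comp_root v (RedSub.wordPerm D.P L c) hroot
  refine ⟨Red.gaFn (Ga.gaPt x ≫ σ), ?_⟩
  rw [P, ← hv, ← hσ, ← Category.assoc, P_eq]

/-- The points contracted to `1` by the cocharacter of `l`. -/
def unip (l : D.M →+ ℤ) (X : Over S) : Subgroup (X ⟶ G) where
  carrier := {g | IsLimPt (gcochar D l) g 1}
  one_mem' := isLimPt_one
  mul_mem' {a b} ha hb := by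
    have := (show IsLimPt (gcochar D l) a 1 from ha).mul (show IsLimPt (gcochar D l) b 1 from hb)
    rwa [_root_.mul_one] at this
  inv_mem' {a} ha := by
    have := (show IsLimPt (gcochar D l) a 1 from ha).inv
    rwa [inv_one] at this

/-- The points having a limit for the cocharacter of `l`. -/
def bor (l : D.M →+ ℤ) (X : Over S) : Subgroup (X ⟶ G) where
  carrier := {g | ∃ L, IsLimPt (gcochar D l) g L}
  one_mem' := ⟨1, isLimPt_one⟩
  mul_mem' := fun ⟨_, ha⟩ ⟨_, hb⟩ => ⟨_, ha.mul hb⟩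
  inv_mem' := fun ⟨_, ha⟩ => ⟨_, ha.inv⟩

theorem unip_le_bor (l : D.M →+ ℤ) (X : Over S) : unip (D := D) l X ≤ bor l X := fun _ h => ⟨1, h⟩

theorem torus_mem_bor (l : D.M →+ ℤ) {X : Over S} (t : X ⟶ D.T) : t ≫ D.i ∈ bor (D := D) l X :=
  ⟨_, isLimPt_torus_pt t⟩

theorem root_mem_unip {l : D.M →+ ℤ} {c : D.idx} (hc : 0 < l (D.P.root c)) {X : Over S} (x : Γ(X.left, ⊤)) :
    P (D.u c) x ∈ unip (D := D) l X :=
  isLimPt_root (d := (l (D.P.root c)).toNat) (isRootPts D c) (by omega)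
    (by rw [Int.toNat_of_nonneg hc.le]; exact hasDeg D l _) x

theorem torus_conj_unip (l : D.M →+ ℤ) {X : Over S} (t : X ⟶ D.T) {g : X ⟶ G}
    (hg : g ∈ unip (D := D) l X) : (t ≫ D.i) * g * (t ≫ D.i)⁻¹ ∈ unip (D := D) l X := by
  have := ((isLimPt_torus_pt (l := l) t).mul (show IsLimPt (gcochar D l) g 1 from hg)).mul
    (isLimPt_torus_pt (l := l) t).inv
  rwa [_root_.mul_one, mul_inv_cancel] at this

theorem prodPts_mem_subgroup {X : Over S} {H : Subgroup (X ⟶ G)} : ∀ {k : ℕ} {g : Fin k → (X ⟶ G)},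
    (∀ i, g i ∈ H) → prodPts k g ∈ H
  | 0, _, _ => one_mem _
  | k + 1, g, hg => by
    rw [prodPts_succ]
    exact mul_mem (hg 0) (prodPts_mem_subgroup fun i => hg i.succ)

/-- A contracted point is an ordered product in any order of the positive roots. -/
theorem exists_prod_unip {l : D.M →+ ℤ} (hl : ∀ a, l (D.P.root a) ≠ 0) {m : ℕ} (d : Fin m → D.idx)
    (hd : RedSub.Enumerates {a | 0 < l (D.P.root a)} d) {X : Over S} {g : X ⟶ G} (hg : g ∈ unip (D := D) l X) :
    ∃ z : Fin m → Γ(X.left, ⊤), g = prodPts m fun k => P (D.u (d k)) (z k) := by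
  classical
  haveI := isAffineHom D
  let A := {a : D.idx // l (D.P.root a) < 0}
  have hd' : ∀ k, 0 < l (D.P.root (d k)) := fun k => Set.ext_iff.1 hd.2 _ |>.1 (Set.mem_range_self k)
  have hcard : Fintype.card A + m = Fintype.card D.idx := by
    rw [show Fintype.card A + m = Fintype.card (A ⊕ Fin m) by simp]
    refine Fintype.card_of_bijective (f := Sum.elim Subtype.val d)
      ⟨Subtype.val_injective.sumElim hd.1 fun a k h => ?_, fun a => ?_⟩
    · have h1 := a.2
      rw [h] at h1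
      exact absurd (hd' k) (not_lt.2 h1.le)
    · rcases lt_or_gt_of_ne (hl a) with h | h
      · exact ⟨Sum.inl ⟨a, h⟩, rfl⟩
      · obtain ⟨k, hk⟩ := (Set.ext_iff.1 hd.2 a).2 h
        exact ⟨Sum.inr k, hk⟩
  haveI := isOpenImmersion_cellMap (l := l) (e := fun k => ((Fintype.equivFin A).symm k).1) (e' := d)
    (Subtype.val_injective.comp (Equiv.injective _)) hd.1 (fun k => ((Fintype.equivFin A).symm k).2) hd' hcard
  obtain ⟨z, hz⟩ := exists_prod_of_isLimPt (e := fun k => ((Fintype.equivFin A).symm k).1) (e' := d)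
    (fun k => ((Fintype.equivFin A).symm k).2) hd' hg
  refine ⟨fun k => Red.gaFn (z ≫ proj m k), hz.symm.trans ?_⟩
  rw [comp_prodMap]
  exact congrArg _ (funext fun k => by rw [← Category.assoc, P_eq])

theorem exists_enum_pair (R : Set D.idx) (p : D.idx → Prop) :
    ∃ (n m : ℕ) (d : Fin n → D.idx) (d' : Fin m → D.idx), RedSub.Enumerates {a | a ∈ R ∧ p a} d ∧
      RedSub.Enumerates R (Fin.append d d') ∧ ∀ k, ¬ p (d' k) := by
  obtain ⟨n, d, hd⟩ := Borel.exists_enum (D := D) {a | a ∈ R ∧ p a}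
  obtain ⟨m, d', hd'⟩ := Borel.exists_enum (D := D) {a | a ∈ R ∧ ¬ p a}
  have h1 : ∀ k, d k ∈ R ∧ p (d k) := fun k => Set.ext_iff.1 hd.2 _ |>.1 (Set.mem_range_self k)
  have h2 : ∀ k, d' k ∈ R ∧ ¬ p (d' k) := fun k => Set.ext_iff.1 hd'.2 _ |>.1 (Set.mem_range_self k)
  refine ⟨n, m, d, d', hd, ⟨Fin.append_injective_iff.2 ⟨hd.1, hd'.1, fun i j h => (h2 j).2 (h ▸ (h1 i).2)⟩, ?_⟩,
    fun k => (h2 k).2⟩
  ext a
  constructor
  · rintro ⟨k, rfl⟩
    refine Fin.addCases (fun i => ?_) (fun i => ?_) k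
    · rw [Fin.append_left]; exact (h1 i).1
    · rw [Fin.append_right]; exact (h2 i).1
  · intro ha
    by_cases h : p a
    · obtain ⟨i, hi⟩ := (Set.ext_iff.1 hd.2 a).2 ⟨ha, h⟩
      exact ⟨Fin.castAdd _ i, by rw [Fin.append_left, hi]⟩
    · obtain ⟨i, hi⟩ := (Set.ext_iff.1 hd'.2 a).2 ⟨ha, h⟩
      exact ⟨Fin.natAdd _ i, by rw [Fin.append_right, hi]⟩

/-- A unipotent point splits along any dichotomy of the roots. -/
theorem exists_split {l : D.M →+ ℤ} (hl : ∀ a, l (D.P.root a) ≠ 0) (p : D.idx → Prop) {X : Over S} {g : X ⟶ G}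
    (hg : g ∈ unip (D := D) l X) :
    ∃ g₁ g₂ : X ⟶ G, g = g₁ * g₂ ∧
      g₁ ∈ Subgroup.closure {h | ∃ (c : D.idx) (x : Γ(X.left, ⊤)), 0 < l (D.P.root c) ∧ p c ∧ h = P (D.u c) x} ∧
      g₂ ∈ Subgroup.closure {h | ∃ (c : D.idx) (x : Γ(X.left, ⊤)), 0 < l (D.P.root c) ∧ ¬ p c ∧ h = P (D.u c) x} := by
  obtain ⟨n, m, d, d', hd, hdd, hd'⟩ := exists_enum_pair (D := D) {a | 0 < l (D.P.root a)} p
  obtain ⟨z, hz⟩ := exists_prod_unip hl _ hdd hg
  have h1 : (fun k => P (D.u (Fin.append d d' k)) (z k)) = Fin.append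
      (fun i => P (D.u (d i)) (z (Fin.castAdd m i))) (fun i => P (D.u (d' i)) (z (Fin.natAdd n i))) := by
    funext k
    refine Fin.addCases (fun i => ?_) (fun i => ?_) k <;> simp [Fin.append_left, Fin.append_right]
  have hpos : ∀ k, 0 < l (D.P.root (Fin.append d d' k)) := fun k =>
    Set.ext_iff.1 hdd.2 _ |>.1 (Set.mem_range_self k)
  rw [h1, prodPts_append] at hz
  refine ⟨_, _, hz, prodPts_mem_subgroup fun i => Subgroup.subset_closure
    ⟨d i, _, ?_, (Set.ext_iff.1 hd.2 _ |>.1 (Set.mem_range_self i)).2, rfl⟩,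
    prodPts_mem_subgroup fun i => Subgroup.subset_closure ⟨d' i, _, ?_, hd' i, rfl⟩⟩
  · simpa using hpos (Fin.castAdd m i)
  · simpa using hpos (Fin.natAdd n i)

/-- Transport of a subgroup generated by root elements under a representative. -/
theorem conj_mem_of_roots [D.P.IsReduced] (hnr : RedSub.RealisesReflections D nr) (L : List D.idx) {X : Over S}
    (H : Subgroup (X ⟶ G)) (p : D.idx → Prop)
    (hp : ∀ c, p c → ∀ x : Γ(X.left, ⊤), P (D.u (RedSub.wordPerm D.P L c)) x ∈ H) {g : X ⟶ G}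
    (hg : g ∈ Subgroup.closure {h | ∃ (c : D.idx) (x : Γ(X.left, ⊤)), p c ∧ h = P (D.u c) x}) :
    rp nr L X * g * (rp nr L X)⁻¹ ∈ H := by
  induction hg using Subgroup.closure_induction with
  | mem g hg =>
    obtain ⟨c, x, hc, rfl⟩ := hg
    obtain ⟨x', hx'⟩ := exists_conj_root L (L.map nr).prod (fun Y => rep_rp hnr L Y) c x
    rw [rp, hx']
    exact hp c hc x'
  | one => simp
  | mul a b _ _ iha ihb =>
    rw [show rp nr L X * (a * b) * (rp nr L X)⁻¹ =
      (rp nr L X * a * (rp nr L X)⁻¹) * (rp nr L X * b * (rp nr L X)⁻¹) by group]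
    exact mul_mem iha ihb
  | inv a _ iha =>
    rw [show rp nr L X * a⁻¹ * (rp nr L X)⁻¹ = (rp nr L X * a * (rp nr L X)⁻¹)⁻¹ by group]
    exact inv_mem iha

/-- The inverse direction. -/
theorem inv_conj_mem_of_roots [D.P.IsReduced] (hnr : RedSub.RealisesReflections D nr) (L : List D.idx) {X : Over S}
    (H : Subgroup (X ⟶ G)) (p : D.idx → Prop)
    (hp : ∀ c, p c → ∀ x : Γ(X.left, ⊤), P (D.u ((RedSub.wordPerm D.P L).symm c)) x ∈ H) {g : X ⟶ G}
    (hg : g ∈ Subgroup.closure {h | ∃ (c : D.idx) (x : Γ(X.left, ⊤)), p c ∧ h = P (D.u c) x}) :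
    (rp nr L X)⁻¹ * g * rp nr L X ∈ H := by
  induction hg using Subgroup.closure_induction with
  | mem g hg =>
    obtain ⟨c, x, hc, rfl⟩ := hg
    obtain ⟨x', hx'⟩ := exists_conj_root L.reverse (L.map nr).prod⁻¹ (fun Y => by
      rw [GrpObj.comp_inv]; exact (rep_rp hnr L Y).inv) c x
    rw [GrpObj.comp_inv, _root_.inv_inv] at hx'
    rw [rp, hx']
    have : RedSub.wordPerm D.P L.reverse c = (RedSub.wordPerm D.P L).symm c := by
      rw [Equiv.eq_symm_apply]
      refine D.P.root.injective ?_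
      rw [← wmap_root, ← wmap_root]
      exact DFunLike.congr_fun (wmap_reverse_comp L) (D.P.root c)
    rw [this]
    exact hp c hc x'
  | one => simp
  | mul a b _ _ iha ihb =>
    rw [show (rp nr L X)⁻¹ * (a * b) * rp nr L X =
      ((rp nr L X)⁻¹ * a * rp nr L X) * ((rp nr L X)⁻¹ * b * rp nr L X) by group]
    exact mul_mem iha ihb
  | inv a _ iha =>
    rw [show (rp nr L X)⁻¹ * a⁻¹ * rp nr L X = ((rp nr L X)⁻¹ * a * rp nr L X)⁻¹ by group]
    exact inv_mem iha

end Groth.Agent.H82.Bruhat
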