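import Groth.Agent.H82.Bruhat.Setup
import Groth.Agent.H82.Borel.Maximal

/-!
# The rank-one Bruhat relation on geometric points
-/

set_option autoImplicit false
set_option linter.style.haveILetI false
set_option linter.unusedSectionVars false
universe u

open CategoryTheory MonoidalCategory CartesianMonoidalCategory MonObj GrpObj AlgebraicGeometry
open Groth.Agent.Lib.RedPts Groth.Agent.H82.BigCell Groth.Agent.H82.Contract Groth.Agent.H82.Weyl
open Groth.Agent.H82.RankOne (P P_eq P_zero P_comp P_add P_neg)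
open Groth.Agent.H82.Borel (IsACPt isACPt_mk exists_torus_scale coroot_root root_neg_idx exists_enum)

namespace Groth.Agent.H82.Bruhat

variable {S : Scheme.{u}} {G : Over S} [GrpObj G] {D : Red.SplitRed G}

theorem Rep.normal {L : List D.idx} {X : Over S} {g : X ⟶ G} (h : Rep L g) : Normal D g :=
  fun Y f t => ⟨_, h Y f t⟩

/-- A geometric point over a point of a scheme over the base. -/
theorem exists_acPt (X : Over S) (p : X.left) :
    ∃ (Y : Over S) (r : Y ⟶ X), IsACPt Y ∧ ∀ o, r.left o = p := by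
  let κ := AlgebraicClosure (X.left.residueField p)
  let j : Spec (CommRingCat.of κ) ⟶ X.left :=
    Spec.map (CommRingCat.ofHom (algebraMap (X.left.residueField p) κ)) ≫ X.left.fromSpecResidueField p
  refine ⟨Over.mk (j ≫ X.hom), Over.homMk j rfl, isACPt_mk κ _, fun o => ?_⟩
  have h : j o ∈ Set.range (X.left.fromSpecResidueField p) := ⟨_, (Scheme.Hom.comp_apply _ _ _).symm⟩
  rw [Scheme.range_fromSpecResidueField] at h
  exact h

theorem nonempty_of_epi {X X' : Over S} [Nontrivial Γ(X.left, ⊤)] (c : X' ⟶ X) [Epi c.left] :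
    Nonempty X'.left := by
  by_contra he
  rw [not_nonempty_iff] at he
  haveI := he
  have h : c ≫ Ga.gaPt (1 : Γ(X.left, ⊤)) = c ≫ Ga.gaPt 0 :=
    Over.OverMorphism.ext ((isInitialOfIsEmpty (X := X'.left)).hom_ext _ _)
  rw [Over.OverMorphism.ext_iff, Over.comp_left, Over.comp_left, cancel_epi] at h
  have h3 := congrArg Red.gaFn (Over.OverMorphism.ext h)
  rw [Ga.gaFn_gaPt, Ga.gaFn_gaPt] at h3
  exact one_ne_zero h3

variable {l : D.M →+ ℤ} (hl : ∀ a, l (D.P.root a) ≠ 0)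

include hl in
/-- Points of the cell in product form. -/
theorem exists_cell_of_form {n m : ℕ} {e : Fin n → D.idx} {e' : Fin m → D.idx}
    (he : RedSub.Enumerates {a | 0 < (-l) (D.P.root a)} e) (he' : RedSub.Enumerates {a | 0 < l (D.P.root a)} e')
    {X : Over S} (t : X ⟶ D.T) {u v : X ⟶ G} (hu : u ∈ unip (D := D) (-l) X) (hv : v ∈ unip (D := D) l X) :
    ∃ z, z ≫ RedSub.cellMap D e e' = u * (t ≫ D.i) * v := by
  obtain ⟨y, rfl⟩ := exists_prod_unip (fun a => by simpa using hl a) e he hu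
  obtain ⟨x, rfl⟩ := exists_prod_unip hl e' he' hv
  refine ⟨lift (tuple n fun k => Ga.gaPt (y k)) (lift t (tuple m fun k => Ga.gaPt (x k))), ?_⟩
  refine (comp_cellMap e' _).trans ?_
  rw [lift_fst, lift_snd_assoc, lift_fst, lift_snd_assoc, lift_snd, comp_prodMap, comp_prodMap, _root_.mul_assoc]
  simp only [← Category.assoc, tuple_proj]
  rfl

include hl in
theorem isOpenImmersion_cell {n m : ℕ} {e : Fin n → D.idx} {e' : Fin m → D.idx}
    (he : RedSub.Enumerates {a | 0 < (-l) (D.P.root a)} e) (he' : RedSub.Enumerates {a | 0 < l (D.P.root a)} e') :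
    (∀ k, l (D.P.root (e k)) < 0) ∧ (∀ k, 0 < l (D.P.root (e' k))) ∧
      IsOpenImmersion (RedSub.cellMap D e e').left := by
  have h1 : ∀ k, l (D.P.root (e k)) < 0 := fun k => by
    simpa using Set.ext_iff.1 he.2 _ |>.1 (Set.mem_range_self k)
  have h2 : ∀ k, 0 < l (D.P.root (e' k)) := fun k => Set.ext_iff.1 he'.2 _ |>.1 (Set.mem_range_self k)
  refine ⟨h1, h2, isOpenImmersion_cellMap he.1 he'.1 h1 h2 ?_⟩
  rw [show n + m = Fintype.card (Fin n ⊕ Fin m) by simp]
  refine Fintype.card_of_bijective (f := Sum.elim e e') ⟨he.1.sumElim he'.1 fun a c h => ?_, fun a => ?_⟩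
  · have := h1 a
    rw [h] at this
    exact absurd (h2 c) (not_lt.2 this.le)
  · rcases lt_or_gt_of_ne (hl a) with h | h
    · obtain ⟨k, hk⟩ := (Set.ext_iff.1 he.2 a).2 (by simpa using h)
      exact ⟨Sum.inl k, hk⟩
    · obtain ⟨k, hk⟩ := (Set.ext_iff.1 he'.2 a).2 h
      exact ⟨Sum.inr k, hk⟩

include hl in
/-- A representative in the cell represents the trivial element. -/
theorem wordPerm_eq_of_cell {L : List D.idx} {X : Over S} [IsAffine X.left] [Nontrivial Γ(X.left, ⊤)]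
    {g : X ⟶ G} (hg : Rep L g) (t : X ⟶ D.T) {u v : X ⟶ G} (hu : u ∈ unip (D := D) (-l) X)
    (hv : v ∈ unip (D := D) l X) (h : g = u * (t ≫ D.i) * v) (c : D.idx) : RedSub.wordPerm D.P L c = c := by
  obtain ⟨n, e, he⟩ := exists_enum (D := D) {a | 0 < (-l) (D.P.root a)}
  obtain ⟨m, e', he'⟩ := exists_enum (D := D) {a | 0 < l (D.P.root a)}
  obtain ⟨h1, h2, ho⟩ := isOpenImmersion_cell hl he he'
  obtain ⟨z, hz⟩ := exists_cell_of_form hl he he' t hu hv
  have h3 := actsBy_unique hg (actsBy_of_cell h1 h2 hg.normal z (hz.trans h.symm))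
  refine D.P.root.injective ?_
  rw [← wmap_root]
  have h4 := wmap_reverse_comp L
  rw [h3, AddMonoidHom.comp_id] at h4
  rw [h4]; rfl

theorem torus_root (c : D.idx) {X : Over S} (t : X ⟶ D.T) (x : Γ(X.left, ⊤)) :
    (t ≫ D.i) * P (D.u c) x * (t ≫ D.i)⁻¹ = P (D.u c) (Red.gmFn (t ≫ chr D (D.P.root c)) * x) :=
  mul_inv_eq_iff_eq_mul.2 (isRootPts D c t x)

include hl in
set_option maxHeartbeats 1000000 in
/-- The rank-one relation: `n u_{-a}(x)` lies in the small cell for `x ≠ 0`. -/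
theorem exists_smallCell [D.P.IsReduced] {a : D.idx} (ha : 0 < l (D.P.root a)) (n₀ : 𝟙_ (Over S) ⟶ G)
    (hn₀ : ∀ X : Over S, Rep [a] (toUnit X ≫ n₀)) {Y : Over S} (hY : IsACPt Y) {x : Γ(Y.left, ⊤)} (hx : x ≠ 0) :
    ∃ (p q : Γ(Y.left, ⊤)) (t : Y ⟶ D.T),
      (toUnit Y ≫ n₀) * P (D.u (D.P.reflectionPerm a a)) x =
        P (D.u (D.P.reflectionPerm a a)) p * (t ≫ D.i) * P (D.u a) q := by
  classical
  haveI := isAffineHom D
  haveI := hY.aff
  haveI := hY.isField.nontrivial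
  haveI := hY.single
  set a' := D.P.reflectionPerm a a with ha'_def
  have ha' : (-l) (D.P.root a') = l (D.P.root a) := by
    rw [ha'_def, root_neg_idx, map_neg, AddMonoidHom.neg_apply, neg_neg]
  obtain ⟨lam, hlam, hlam'⟩ := Weyl.exists_singular_functional D a
  have hcomm : Commutes (gcochar D lam) (toUnit Y ≫ n₀) := by
    have hc := ActsBy.carries (hn₀ Y) lam
    have e1 : lam.comp (wmap D [a].reverse) = lam := by
      ext x
      simp [wmap, D.P.reflection_apply, hlam]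
    rw [e1] at hc
    exact hc.commutes
  obtain ⟨X', c, p₀', p₁', q₀', q₁', t₀', t₁', hc, hg⟩ :=
    exists_rankOne (D := D) (j := a) (j' := a') (root_neg_idx a) hlam hlam' hcomm
  haveI := hc
  obtain ⟨pt⟩ := nonempty_of_epi c
  obtain ⟨Y', r, hY', -⟩ := exists_acPt X' pt
  haveI := hY'.aff
  haveI := hY'.isField.nontrivial
  let s : Y' ⟶ Y := r ≫ c
  let n := toUnit Y' ≫ n₀
  have hn : n = s ≫ toUnit Y ≫ n₀ := by
    rw [← Category.assoc, toUnit_unique (s ≫ toUnit Y) (toUnit Y')]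
  let p₀ := Red.gaFn (r ≫ p₀')
  let p₁ := Red.gaFn (r ≫ p₁')
  let q₀ := Red.gaFn (r ≫ q₀')
  let q₁ := Red.gaFn (r ≫ q₁')
  let t₀ := r ≫ t₀'
  let t₁ := r ≫ t₁'
  have e1 : n * (P (D.u a') p₀ * ((t₀ ≫ D.i) * P (D.u a) q₀)) =
      P (D.u a') p₁ * ((t₁ ≫ D.i) * P (D.u a) q₁) := by
    have h := congrArg (r ≫ ·) hg
    simp only [MonObj.comp_mul, GrpObj.comp_inv] at h
    rw [← Category.assoc r c, ← hn, eq_mul_inv_iff_mul_eq] at h
    simp only [n, p₀, p₁, q₀, q₁, t₀, t₁, ← P_eq, Category.assoc]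
    exact h
  -- n * u'(p₀) in the small cell
  have e2 : n * P (D.u a') p₀ = P (D.u a') p₁ * ((t₁ * t₀⁻¹) ≫ D.i) *
      P (D.u a) (Red.gmFn (t₀ ≫ chr D (D.P.root a)) * (q₁ + -q₀)) := by
    rw [← torus_root, P_add, P_neg, MonObj.mul_comp, GrpObj.inv_comp]
    calc n * P (D.u a') p₀ = n * (P (D.u a') p₀ * ((t₀ ≫ D.i) * P (D.u a) q₀)) *
          ((P (D.u a) q₀)⁻¹ * (t₀ ≫ D.i)⁻¹) := by group
      _ = _ := by rw [e1]; group
  have hp₀ : p₀ ≠ 0 := by
    intro h0
    rw [h0, P_zero, _root_.mul_one] at e2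
    have hrep : Rep [a] n := hn₀ Y'
    have h := wordPerm_eq_of_cell hl hrep _ (root_mem_unip (by rw [ha']; exact ha) p₁) (root_mem_unip ha _) e2 a
    rw [wordPerm_singleton] at h
    have h2 : D.P.root a' = D.P.root a := congrArg D.P.root h
    have h3 := congrArg l h2
    rw [ha'_def, root_neg_idx, map_neg] at h3
    omega
  have hsinj : Function.Injective s.left.appTop := by
    letI := hY.isField.toField
    exact RingHom.injective s.left.appTop.hom
  have hx' : s.left.appTop x ≠ 0 := fun h => hx (hsinj (h.trans (map_zero _).symm))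
  obtain ⟨τ, hτ⟩ := exists_torus_scale hY' (D.P.coroot a').toAddMonoidHom (coroot_root a') hp₀ hx'
  let φτ := act D (wmap D [a].reverse) τ
  have hτn : n * (τ ≫ D.i) * n⁻¹ = φτ ≫ D.i := by
    have h := hn₀ Y' Y' (𝟙 Y') τ
    rwa [Category.id_comp] at h
  let Q := Red.gmFn (t₀ ≫ chr D (D.P.root a)) * (q₁ + -q₀)
  let p' := Red.gmFn (φτ ≫ chr D (D.P.root a')) * p₁
  let q' := Red.gmFn (τ ≫ chr D (D.P.root a)) * Q
  let tt : Y' ⟶ D.T := φτ * (t₁ * t₀⁻¹) * τ⁻¹
  have e3 : s ≫ ((toUnit Y ≫ n₀) * P (D.u a') x) = P (D.u a') p' * (tt ≫ D.i) * P (D.u a) q' := by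
    rw [MonObj.comp_mul, ← hn, P_comp, ← hτ]
    simp only [p', q', tt, MonObj.mul_comp _ _ D.i, GrpObj.inv_comp _ D.i, ← torus_root]
    calc n * ((τ ≫ D.i) * P (D.u a') p₀ * (τ ≫ D.i)⁻¹)
        = (n * (τ ≫ D.i) * n⁻¹) * (n * P (D.u a') p₀) * (τ ≫ D.i)⁻¹ := by group
      _ = _ := by
        rw [hτn, e2]
        simp only [Q, MonObj.mul_comp _ _ D.i, GrpObj.inv_comp _ D.i]
        group
  -- descend to Y
  obtain ⟨N, e, he⟩ := exists_enum (D := D) {c | 0 < (-l) (D.P.root c)}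
  obtain ⟨M, e', he'⟩ := exists_enum (D := D) {c | 0 < l (D.P.root c)}
  obtain ⟨h1, h2, ho⟩ := isOpenImmersion_cell hl he he'
  haveI := ho
  haveI : Mono (RedSub.cellMap D e e') :=
    (Over.forget S).mono_of_mono_map (inferInstanceAs (Mono (RedSub.cellMap D e e').left))
  obtain ⟨k₀, hk₀⟩ := (Set.ext_iff.1 he.2 a').2 (show 0 < (-l) (D.P.root a') by rw [ha']; exact ha)
  obtain ⟨k₁, hk₁⟩ := (Set.ext_iff.1 he'.2 a).2 ha
  let z' : Y' ⟶ RedSub.pow (Red.Ga S) N ⊗ (D.T ⊗ RedSub.pow (Red.Ga S) M) :=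
    lift (tuple N fun k => Ga.gaPt (if k = k₀ then p' else 0))
      (lift tt (tuple M fun k => Ga.gaPt (if k = k₁ then q' else 0)))
  have hz' : z' ≫ RedSub.cellMap D e e' = s ≫ ((toUnit Y ≫ n₀) * P (D.u a') x) := by
    rw [e3]
    refine (comp_cellMap e' _).trans ?_
    simp only [z', lift_fst, lift_snd_assoc, lift_snd, comp_prodMap, _root_.mul_assoc, ← Category.assoc, tuple_proj]
    have hP : ∀ (c : D.idx) (r : Γ(Y'.left, ⊤)), Ga.gaPt r ≫ D.u c = P (D.u c) r := fun c r => rfl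
    simp only [hP]
    rw [prodPts_single k₀ fun k hk => by rw [if_neg hk, P_zero],
      prodPts_single k₁ fun k hk => by rw [if_neg hk, P_zero], if_pos rfl, if_pos rfl, hk₀, hk₁]
  obtain ⟨z, hz⟩ := exists_factor (RedSub.cellMap D e e') ((toUnit Y ≫ n₀) * P (D.u a') x) (by
    rintro _ ⟨y, rfl⟩
    haveI : Nonempty Y'.left := by
      by_contra h
      rw [not_nonempty_iff] at h
      haveI := h
      exact not_subsingleton Γ(Y'.left, ⊤) inferInstance
    obtain ⟨o⟩ := (inferInstance : Nonempty Y'.left)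
    rw [Subsingleton.elim y (s.left o), ← Scheme.Hom.comp_apply, ← Over.comp_left, ← hz', Over.comp_left,
      Scheme.Hom.comp_apply]
    exact ⟨_, rfl⟩)
  have hsz : s ≫ z = z' := by
    rw [← cancel_mono (RedSub.cellMap D e e'), Category.assoc, hz, hz']
  have hy : ∀ k, k ≠ k₀ → Red.gaFn (z ≫ fst _ _ ≫ proj N k) = 0 := fun k hk => hsinj (by
    rw [← Ga.gaFn_comp, reassoc_of% hsz, lift_fst_assoc, tuple_proj, Ga.gaFn_gaPt, if_neg hk, map_zero])
  have hw : ∀ k, k ≠ k₁ → Red.gaFn (z ≫ snd _ _ ≫ snd _ _ ≫ proj M k) = 0 := fun k hk => hsinj (by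
    rw [← Ga.gaFn_comp, reassoc_of% hsz, lift_snd_assoc, lift_snd_assoc, tuple_proj, Ga.gaFn_gaPt, if_neg hk,
      map_zero])
  refine ⟨Red.gaFn (z ≫ fst _ _ ≫ proj N k₀), Red.gaFn (z ≫ snd _ _ ≫ snd _ _ ≫ proj M k₁),
    z ≫ snd _ _ ≫ fst _ _, ?_⟩
  rw [← hz]
  refine (comp_cellMap e' z).trans ?_
  simp only [comp_prodMap, ← Category.assoc, _root_.mul_assoc]
  have hP : ∀ (c : D.idx) (g : Y ⟶ Red.Ga S), g ≫ D.u c = P (D.u c) (Red.gaFn g) := fun c g => P_eq _ g
  simp only [hP]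
  simp only [Category.assoc]
  rw [prodPts_single k₀ fun k hk => by rw [hy k hk, P_zero],
    prodPts_single k₁ fun k hk => by rw [hw k hk, P_zero], hk₀, hk₁]

end Groth.Agent.H82.Bruhat
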